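import Mathlib
import Cfsg.Agent.Lib.LocalEven.Basic

/-!
# A fixed-point-free element of order three inverted by an involution, acting on a 2-group
-/

set_option autoImplicit false

namespace CfsgLib.SevenSpectrum

open Subgroup

universe u

variable {G : Type u} [Group G] [Finite G]

/-- `x` of order three acts without fixed points on the 2-group `D` and is inverted by the involution `a`. -/
structure Inv3 (D : Subgroup G) (x a : G) : Prop where
  two : IsPGroup 2 D
  normX : x ∈ normalizer (D : Set G)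
  normA : a ∈ normalizer (D : Set G)
  cube : x * x * x = 1
  aa : a * a = 1
  inv : a * x * a = x⁻¹
  free : ∀ d ∈ D, x * d = d * x → d = 1

/-- The fixed points of `a` on `D`. -/
def fixA (D : Subgroup G) (a : G) : Subgroup G := D ⊓ centralizer ({a} : Set G)

omit [Finite G] in
theorem mem_fixA {D : Subgroup G} {a d : G} : d ∈ fixA D a ↔ d ∈ D ∧ a * d = d * a := by
  rw [fixA, mem_inf, mem_centralizer_singleton_iff]
  exact and_congr_right fun _ => eq_comm

namespace Inv3

variable {D : Subgroup G} {x a : G} (S : Inv3 D x a)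
include S

omit [Finite G] in
theorem xsq : x * x = x⁻¹ := eq_inv_of_mul_eq_one_left S.cube

omit [Finite G] in
theorem ainv : a⁻¹ = a := inv_eq_of_mul_eq_one_right S.aa

omit [Finite G] in
theorem ax : a * x = x⁻¹ * a := by
  rw [← S.inv, mul_assoc (a * x), S.aa, mul_one]

omit [Finite G] in
theorem xa : x * a = a * x⁻¹ := by
  rw [← S.inv, ← mul_assoc, ← mul_assoc, S.aa, one_mul]

omit [Finite G] in
theorem conjA {d : G} (hd : d ∈ D) : a * d * a ∈ D := by
  have := (mem_normalizer_iff.mp S.normA d).mp hd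
  rwa [S.ainv] at this

omit [Finite G] in
theorem conjX {d : G} (hd : d ∈ D) : x * d * x⁻¹ ∈ D := (mem_normalizer_iff.mp S.normX d).mp hd

omit [Finite G] in
theorem conjX' {d : G} (hd : d ∈ D) : x⁻¹ * d * x ∈ D := (mem_normalizer_iff''.mp S.normX d).mp hd

omit [Finite G] in
theorem conjA_x {d : G} (hd : a * d = d * a) : a * (x * d * x⁻¹) * a = x⁻¹ * d * x := by
  calc a * (x * d * x⁻¹) * a = a * x * d * (x⁻¹ * a) := by group
    _ = x⁻¹ * a * d * (a * x) := by rw [S.ax]
    _ = x⁻¹ * (d * a) * (a * x) := by rw [← hd]; group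
    _ = x⁻¹ * d * (a * a) * x := by group
    _ = x⁻¹ * d * x := by rw [S.aa, mul_one]

omit [Finite G] in
theorem conjA_x' {d : G} (hd : a * d = d * a) : a * (x⁻¹ * d * x) * a = x * d * x⁻¹ := by
  calc a * (x⁻¹ * d * x) * a = a * x⁻¹ * d * (x * a) := by group
    _ = x * a * d * (a * x⁻¹) := by rw [S.xa]
    _ = x * (d * a) * (a * x⁻¹) := by rw [← hd]; group
    _ = x * d * (a * a) * x⁻¹ := by group
    _ = x * d * x⁻¹ := by rw [S.aa, mul_one]

theorem exists_comm {b : G} (hb : b ∈ D) : ∃ g ∈ D, g⁻¹ * (x * g * x⁻¹) = b := by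
  have hinj : Function.Injective
      (fun g : D => (⟨(g : G)⁻¹ * (x * g * x⁻¹), mul_mem (inv_mem g.2) (S.conjX g.2)⟩ : D)) := by
    intro g k hgk
    have e : (g : G)⁻¹ * (x * g * x⁻¹) = (k : G)⁻¹ * (x * k * x⁻¹) := congrArg Subtype.val hgk
    have hfix : x * ((k : G) * (g : G)⁻¹) = (k : G) * (g : G)⁻¹ * x := by
      calc x * ((k : G) * (g : G)⁻¹) = x * k * x⁻¹ * (x * (g : G)⁻¹ * x⁻¹) * x := by group
        _ = (k : G) * ((k : G)⁻¹ * (x * k * x⁻¹)) * (x * (g : G)⁻¹ * x⁻¹) * x := by group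
        _ = (k : G) * ((g : G)⁻¹ * (x * g * x⁻¹)) * (x * (g : G)⁻¹ * x⁻¹) * x := by rw [e]
        _ = (k : G) * (g : G)⁻¹ * x := by group
    exact Subtype.ext (mul_inv_eq_one.mp (S.free _ (mul_mem k.2 (inv_mem g.2)) hfix)).symm
  obtain ⟨g, hg⟩ := Finite.surjective_of_injective hinj ⟨b, hb⟩
  exact ⟨g, g.2, congrArg Subtype.val hg⟩

theorem trip {b : G} (hb : b ∈ D) : b * (x * b * x⁻¹) * (x⁻¹ * b * x) = 1 := by
  obtain ⟨g, -, rfl⟩ := S.exists_comm hb
  calc g⁻¹ * (x * g * x⁻¹) * (x * (g⁻¹ * (x * g * x⁻¹)) * x⁻¹) * (x⁻¹ * (g⁻¹ * (x * g * x⁻¹)) * x)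
      = g⁻¹ * ((x * x) * g * (x * x)⁻¹) * (x⁻¹ * g⁻¹ * x * g) := by group
    _ = 1 := by rw [S.xsq]; group

theorem disjoint {b : G} (hb : b ∈ fixA D a) (hb' : x * b * x⁻¹ ∈ fixA D a) : b = 1 := by
  obtain ⟨hbD, hab⟩ := mem_fixA.mp hb
  obtain ⟨-, hab'⟩ := mem_fixA.mp hb'
  refine S.free b hbD ?_
  have e : x * b * x⁻¹ = x⁻¹ * b * x := by
    rw [← S.conjA_x hab, hab', mul_assoc _ a a, S.aa, mul_one]
  have e2 : (x * x) * b = b * (x * x) := by
    calc (x * x) * b = x * (x * b * x⁻¹) * x := by group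
      _ = x * (x⁻¹ * b * x) * x := by rw [e]
      _ = b * (x * x) := by group
  have e3 := ((show Commute (x * x) b from e2).mul_left e2).eq
  rwa [show x * x * (x * x) = (x * x * x) * x by group, S.cube, one_mul] at e3

theorem comm_self {b : G} (hb : b ∈ fixA D a) :
    (x * b * x⁻¹) * (x⁻¹ * b * x) = b⁻¹ ∧ (x⁻¹ * b * x) * (x * b * x⁻¹) = b⁻¹ ∧
      b * (x * b * x⁻¹) = x * b * x⁻¹ * b ∧ b * (x⁻¹ * b * x) = x⁻¹ * b * x * b := by
  obtain ⟨hbD, hab⟩ := mem_fixA.mp hb
  have h1 := S.trip hbD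
  have h2 : b * (x⁻¹ * b * x) * (x * b * x⁻¹) = 1 := by
    calc b * (x⁻¹ * b * x) * (x * b * x⁻¹)
        = b * (a * (x * b * x⁻¹) * a) * (a * (x⁻¹ * b * x) * a) := by rw [S.conjA_x hab, S.conjA_x' hab]
      _ = b * a * (x * b * x⁻¹) * (a * a) * (x⁻¹ * b * x) * a := by group
      _ = a * (b * (x * b * x⁻¹) * (x⁻¹ * b * x)) * a := by rw [← hab, S.aa, mul_one]; group
      _ = 1 := by rw [h1, mul_one, S.aa]
  have e1 : (x * b * x⁻¹) * (x⁻¹ * b * x) = b⁻¹ := eq_inv_of_mul_eq_one_right (by rwa [← mul_assoc])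
  have e2 : (x⁻¹ * b * x) * (x * b * x⁻¹) = b⁻¹ := eq_inv_of_mul_eq_one_right (by rwa [← mul_assoc])
  have hc : Commute (x * b * x⁻¹) (x⁻¹ * b * x) := e1.trans e2.symm
  refine ⟨e1, e2, ?_, ?_⟩
  · have : Commute (x * b * x⁻¹) b⁻¹ := by rw [← e1]; exact (Commute.refl _).mul_right hc
    exact (Commute.inv_right_iff.mp this).symm.eq
  · have : Commute (x⁻¹ * b * x) b⁻¹ := by rw [← e1]; exact hc.symm.mul_right (Commute.refl _)
    exact (Commute.inv_right_iff.mp this).symm.eq

theorem symm : Inv3 D x⁻¹ a where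
  two := S.two
  normX := inv_mem S.normX
  normA := S.normA
  cube := by rw [← mul_inv_rev, ← mul_inv_rev, ← mul_assoc, S.cube, inv_one]
  aa := S.aa
  inv := by
    rw [show a * x⁻¹ * a = (a⁻¹ * x * a⁻¹)⁻¹ by group, S.ainv, S.inv]
  free := fun d hd h => S.free d hd (Commute.inv_left_iff.mp h).eq

theorem mono {V : Subgroup G} (hVD : V ≤ D) (hx : x ∈ normalizer (V : Set G))
    (ha : a ∈ normalizer (V : Set G)) : Inv3 V x a where
  two := S.two.to_le hVD
  normX := hx
  normA := ha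
  cube := S.cube
  aa := S.aa
  inv := S.inv
  free := fun d hd h => S.free d (hVD hd) h

/-- Commuting fixed involutions commute with the conjugates of each other. -/
theorem cross {b c : G} (hb : b ∈ fixA D a) (hc : c ∈ fixA D a) (hb2 : b * b = 1) (hc2 : c * c = 1)
    (hbc : b * c = c * b) : b * (x * c * x⁻¹) = x * c * x⁻¹ * b := by
  obtain ⟨hbD, hab⟩ := mem_fixA.mp hb
  obtain ⟨hcD, hac⟩ := mem_fixA.mp hc
  obtain ⟨-, -, hbw, -⟩ := S.comm_self hb
  obtain ⟨-, -, hcu, -⟩ := S.comm_self hc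
  set u := x * c * x⁻¹ with hu
  set v := x⁻¹ * c * x with hv
  set w := x * b * x⁻¹ with hw
  set w' := x⁻¹ * b * x with hw'
  have hu2 : u * u = 1 := by rw [hu, show x * c * x⁻¹ * (x * c * x⁻¹) = x * (c * c) * x⁻¹ by group, hc2]; group
  have hv2 : v * v = 1 := by rw [hv, show x⁻¹ * c * x * (x⁻¹ * c * x) = x⁻¹ * (c * c) * x by group, hc2]; group
  have hve : v = c * u := by
    have e := eq_inv_of_mul_eq_one_right (S.trip hcD)
    rw [← hu, ← hv] at e
    calc v = v⁻¹ := (inv_eq_of_mul_eq_one_right hv2).symm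
      _ = c * u := by rw [e, inv_inv]
  have hw'2 : w' * w' = 1 := by
    rw [hw', show x⁻¹ * b * x * (x⁻¹ * b * x) = x⁻¹ * (b * b) * x by group, hb2]; group
  have hw'e : w' = b * w := by
    have e := eq_inv_of_mul_eq_one_right (S.trip hbD)
    rw [← hw', ← hw] at e
    calc w' = w'⁻¹ := (inv_eq_of_mul_eq_one_right hw'2).symm
      _ = b * w := by rw [e, inv_inv]
  have hfix : a * (b * u * (b * u)) = b * u * (b * u) * a := by
    have e : a * (b * u * (b * u)) * a = b * u * (b * u) := by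
      calc a * (b * u * (b * u)) * a
          = a * b * ((a * a) * u * (a * a)) * b * ((a * a) * u * a) := by rw [S.aa]; group
        _ = (a * b * a) * (a * u * a) * ((a * b * a) * (a * u * a)) := by group
        _ = b * v * (b * v) := by
          rw [show a * b * a = b by rw [hab, mul_assoc, S.aa, mul_one], hu, S.conjA_x hac]
        _ = b * (c * u) * (b * (c * u)) := by rw [hve]
        _ = (b * c) * u * (b * c) * u := by group
        _ = (c * b) * u * (c * b) * u := by rw [hbc]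
        _ = c * b * (u * c) * b * u := by group
        _ = c * b * (c * u) * b * u := by rw [hcu]
        _ = c * (b * c) * u * b * u := by group
        _ = (c * c) * b * u * b * u := by rw [hbc]; group
        _ = b * u * (b * u) := by rw [hc2]; group
    calc a * (b * u * (b * u)) = a * (b * u * (b * u)) * a * a := by rw [mul_assoc _ a a, S.aa, mul_one]
      _ = b * u * (b * u) * a := by rw [e]
  have hf2 : x⁻¹ * (b * u * (b * u)) * x = w * c * (w * c) := by
    calc x⁻¹ * (b * u * (b * u)) * x = w' * c * (w' * c) := by rw [hu, hw']; group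
      _ = b * w * c * (b * w * c) := by rw [hw'e]
      _ = b * w * (c * b) * w * c := by group
      _ = b * w * (b * c) * w * c := by rw [hbc]
      _ = (w * b) * b * c * w * c := by rw [← hbw]; group
      _ = w * (b * b) * c * w * c := by group
      _ = w * c * (w * c) := by rw [hb2]; group
  have hfix2 : a * (x⁻¹ * (b * u * (b * u)) * x) = x⁻¹ * (b * u * (b * u)) * x * a := by
    have e : a * (w * c * (w * c)) * a = w * c * (w * c) := by
      calc a * (w * c * (w * c)) * a
          = a * w * ((a * a) * c * (a * a)) * w * ((a * a) * c * a) := by rw [S.aa]; group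
        _ = (a * w * a) * (a * c * a) * ((a * w * a) * (a * c * a)) := by group
        _ = w' * c * (w' * c) := by
          rw [show a * c * a = c by rw [hac, mul_assoc, S.aa, mul_one], hw, S.conjA_x hab]
        _ = x⁻¹ * (b * u * (b * u)) * x := by rw [hu, hw']; group
        _ = w * c * (w * c) := hf2
    rw [hf2]
    calc a * (w * c * (w * c)) = a * (w * c * (w * c)) * a * a := by rw [mul_assoc _ a a, S.aa, mul_one]
      _ = w * c * (w * c) * a := by rw [e]
  have hfD : b * u * (b * u) ∈ D := mul_mem (mul_mem hbD (S.conjX hcD)) (mul_mem hbD (S.conjX hcD))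
  have h1 := S.disjoint (mem_fixA.mpr ⟨S.conjX' hfD, hfix2⟩)
    (by rw [show x * (x⁻¹ * (b * u * (b * u)) * x) * x⁻¹ = b * u * (b * u) by group]
        exact mem_fixA.mpr ⟨hfD, hfix⟩)
  have h2 : b * u * (b * u) = 1 := by
    calc b * u * (b * u) = x * (x⁻¹ * (b * u * (b * u)) * x) * x⁻¹ := by group
      _ = 1 := by rw [h1]; group
  calc b * u = (b * u)⁻¹ := eq_inv_of_mul_eq_one_left h2
    _ = u⁻¹ * b⁻¹ := mul_inv_rev _ _
    _ = u * b := by rw [inv_eq_of_mul_eq_one_right hu2, inv_eq_of_mul_eq_one_right hb2]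

end Inv3

end CfsgLib.SevenSpectrum
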