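import Mathlib
import Cfsg.Agent.Lib.Solvable.Basic
import Cfsg.Agent.Lib.Solvable.FrobeniusComplement
import Cfsg.Agent.Lib.LocalEven.CoreOf
import Cfsg.Agent.Lib.SFreeLocals.Thompson

/-!
# Groups in which every element order is a power of two or a prime different from five

Centralisers of involutions are 2-groups, so elements of odd order act without fixed points on
2-subgroups.
-/

set_option autoImplicit false

namespace CfsgLib.SevenSpectrum

open Subgroup

universe u v

/-- Every element order is a power of two or a prime different from five. -/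
def Spec (G : Type u) [Group G] : Prop :=
  ∀ g : G, g ≠ 1 → (∃ k : ℕ, orderOf g = 2 ^ k) ∨ ((orderOf g).Prime ∧ orderOf g ≠ 5)

variable {G : Type u} [Group G] [Finite G]

theorem Spec.of_injective (h : Spec G) {H : Type v} [Group H] (f : H →* G) (hf : Function.Injective f) :
    Spec H := fun g hg => by
  have := h (f g) (fun e => hg (hf (e.trans (map_one f).symm)))
  rwa [orderOf_injective f hf] at this

theorem Spec.subgroup (h : Spec G) (H : Subgroup G) : Spec H :=
  h.of_injective H.subtype H.subtype_injective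

theorem Spec.of_surjective (h : Spec G) {H : Type v} [Group H] (f : G →* H) (hf : Function.Surjective f) :
    Spec H := fun y hy => by
  obtain ⟨g, rfl⟩ := hf y
  have hd : orderOf (f g) ∣ orderOf g := orderOf_map_dvd f g
  rcases h g (fun e => hy (by rw [e, map_one])) with ⟨k, hk⟩ | ⟨hp, h5⟩
  · obtain ⟨j, -, hj⟩ := (Nat.dvd_prime_pow Nat.prime_two).mp (hk ▸ hd)
    exact Or.inl ⟨j, hj⟩
  · rcases (Nat.dvd_prime hp).mp hd with e | e
    · exact absurd (orderOf_eq_one_iff.mp e) hy
    · exact Or.inr (e ▸ ⟨hp, h5⟩)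

theorem Spec.ppow (h : Spec G) (g : G) (hg : g ≠ 1) : IsPrimePow (orderOf g) := by
  rcases h g hg with ⟨k, hk⟩ | ⟨hp, -⟩
  · rw [hk]
    refine Nat.prime_two.isPrimePow.pow ?_
    rintro rfl
    exact hg (orderOf_eq_one_iff.mp (by simpa using hk))
  · exact hp.isPrimePow

omit [Finite G] in
theorem Spec.order_eq (h : Spec G) {g : G} {q : ℕ} (hq : q.Prime) (hq2 : q ≠ 2) (hd : q ∣ orderOf g) :
    orderOf g = q := by
  have hg : g ≠ 1 := by
    rintro rfl
    rw [orderOf_one, Nat.dvd_one] at hd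
    exact hq.ne_one hd
  rcases h g hg with ⟨k, hk⟩ | ⟨hp, -⟩
  · exact absurd ((Nat.prime_dvd_prime_iff_eq hq Nat.prime_two).mp (hq.dvd_of_dvd_pow (hk ▸ hd))) hq2
  · exact ((Nat.prime_dvd_prime_iff_eq hq hp).mp hd).symm

omit [Finite G] in
theorem Spec.not_five (h : Spec G) (g : G) : orderOf g ≠ 5 := by
  intro h5
  have hg : g ≠ 1 := by rintro rfl; simp at h5
  rcases h g hg with ⟨k, hk⟩ | ⟨-, hne⟩
  · rw [h5] at hk
    exact absurd ((Nat.prime_dvd_prime_iff_eq (by norm_num) Nat.prime_two).mp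
      ((show Nat.Prime 5 by norm_num).dvd_of_dvd_pow (hk ▸ dvd_rfl : 5 ∣ 2 ^ k))) (by norm_num)
  · exact hne h5

theorem exists_prime_dvd_or_two_pow (n : ℕ) (hn : n ≠ 0) :
    (∃ k, n = 2 ^ k) ∨ ∃ q, q.Prime ∧ q ≠ 2 ∧ q ∣ n := by
  by_cases h : ∀ {d : ℕ}, d.Prime → d ∣ n → d = 2
  · exact Or.inl ⟨_, Nat.eq_prime_pow_of_unique_prime_dvd hn h⟩
  · push_neg at h
    obtain ⟨q, hq, hd, hne⟩ := h
    exact Or.inr ⟨q, hq, hne, hd⟩

omit [Finite G] in
/-- Elements of coprime prime orders do not commute. -/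
theorem Spec.not_commute (h : Spec G) {g k : G} {q r : ℕ} (hq : q.Prime) (hr : r.Prime) (hq2 : q ≠ 2)
    (hne : q ≠ r) (hg : orderOf g = q) (hk : orderOf k = r) : g * k ≠ k * g := fun hc => by
  have e := (show Commute g k from hc).orderOf_mul_eq_mul_orderOf_of_coprime
    (by rw [hg, hk]; exact (Nat.coprime_primes hq hr).mpr hne)
  have e' := h.order_eq hq hq2 (by rw [e, hg]; exact dvd_mul_right q (orderOf k))
  rw [e, hg, hk] at e'
  have := hr.two_le
  have := hq.pos
  nlinarith

omit [Finite G] in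
theorem exists_involution_zpowers {g : G} {k : ℕ} (hg : orderOf g = 2 ^ k) (hk : k ≠ 0) :
    orderOf (g ^ 2 ^ (k - 1)) = 2 := by
  have h1 : 2 ^ (k - 1) ∣ orderOf g := hg ▸ pow_dvd_pow 2 (Nat.sub_le k 1)
  rw [orderOf_pow_of_dvd (by positivity) h1, hg]
  rw [Nat.pow_div (Nat.sub_le k 1) (by norm_num), show k - (k - 1) = 1 by omega, pow_one]

omit [Finite G] in
theorem exists_involution_of_two_pow {g : G} (hg : g ≠ 1) {k : ℕ} (hk : orderOf g = 2 ^ k) :
    ∃ t ∈ zpowers g, orderOf t = 2 := by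
  have hk0 : k ≠ 0 := by
    rintro rfl
    exact hg (orderOf_eq_one_iff.mp (by simpa using hk))
  exact ⟨_, pow_mem (mem_zpowers g) _, exists_involution_zpowers hk hk0⟩

theorem exists_involution_mem {T : Subgroup G} (hT : IsPGroup 2 T) (hne : T ≠ ⊥) :
    ∃ t ∈ T, orderOf t = 2 := by
  obtain ⟨⟨g, hg⟩, hx⟩ := T.ne_bot_iff_exists_ne_one.mp hne
  have hg1 : g ≠ 1 := fun e => hx (Subtype.ext e)
  obtain ⟨k, hk⟩ := IsPGroup.iff_orderOf.mp hT ⟨g, hg⟩
  rw [Subgroup.orderOf_mk] at hk
  obtain ⟨t, ht, ht2⟩ := exists_involution_of_two_pow hg1 hk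
  exact ⟨t, zpowers_le.mpr hg ht, ht2⟩

omit [Finite G] in
theorem Spec.no_commute_involution (h : Spec G) {y t : G} {q : ℕ} (hq : q.Prime) (hq2 : q ≠ 2)
    (hy : orderOf y = q) (ht : orderOf t = 2) : y * t ≠ t * y :=
  h.not_commute hq Nat.prime_two hq2 hq2 hy ht

/-- The centraliser of an involution is a 2-group. -/
theorem Spec.centralizer_isPGroup (h : Spec G) {t : G} (ht : orderOf t = 2) :
    IsPGroup 2 (centralizer ({t} : Set G)) := by
  rw [IsPGroup.iff_orderOf]
  intro c
  rw [← Subgroup.orderOf_coe]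
  rcases exists_prime_dvd_or_two_pow (orderOf (c : G)) (orderOf_pos _).ne' with hk | ⟨q, hq, hq2, hd⟩
  · exact hk
  · exact absurd (mem_centralizer_singleton_iff.mp c.2)
      (h.no_commute_involution hq hq2 (h.order_eq hq hq2 hd) ht)

/-- An element of odd prime order has no fixed point on a 2-subgroup. -/
theorem Spec.free (h : Spec G) {q : ℕ} (hq : q.Prime) (hq2 : q ≠ 2) {y : G} (hy : orderOf y = q)
    {D : Subgroup G} (hD : IsPGroup 2 D) {d : G} (hd : d ∈ D) (hc : y * d = d * y) : d = 1 := by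
  by_contra hne
  obtain ⟨k, hk⟩ := IsPGroup.iff_orderOf.mp hD ⟨d, hd⟩
  rw [Subgroup.orderOf_mk] at hk
  obtain ⟨t, ht, ht2⟩ := exists_involution_of_two_pow hne hk
  obtain ⟨m, rfl⟩ := mem_zpowers_iff.mp ht
  exact h.no_commute_involution hq hq2 hy ht2 ((show Commute y d from hc).zpow_right m).eq

theorem Spec.centralizer_two (h : Spec G) {D : Subgroup G} (hD : IsPGroup 2 D) (hne : D ≠ ⊥) :
    IsPGroup 2 (centralizer (D : Set G)) := by
  obtain ⟨t, ht, ht2⟩ := exists_involution_mem hD hne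
  exact (h.centralizer_isPGroup ht2).to_le fun x hx =>
    mem_centralizer_singleton_iff.mpr (mem_centralizer_iff.mp hx t ht).symm

theorem not_mem_zpowers_card {y c : G} {r : ℕ} (hr : r.Prime)
    (hc : orderOf c = r) (hnot : c ∉ zpowers y) : zpowers y ⊓ zpowers c = ⊥ := by
  haveI := Fact.mk hr
  rw [eq_bot_iff]
  intro z hz
  by_contra hz1
  rw [mem_bot] at hz1
  have hcard : Nat.card (zpowers c) = r := by rw [Nat.card_zpowers, hc]
  have hle : zpowers z ≤ zpowers c := zpowers_le.mpr hz.2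
  have : zpowers z = zpowers c := by
    refine eq_of_le_of_card_ge hle ?_
    rw [hcard, Nat.card_zpowers]
    rcases (Nat.dvd_prime hr).mp (hcard ▸ (Nat.card_zpowers z ▸ card_dvd_of_le hle)) with e | e
    · exact absurd (orderOf_eq_one_iff.mp e) hz1
    · exact e.ge
  exact hnot (zpowers_le.mpr hz.1 (this.ge (mem_zpowers c)))

/-- A subgroup of order `q r` cannot act on a nontrivial 2-group. -/
theorem Spec.no_normalizing (h : Spec G) {q r : ℕ} (hq : q.Prime) (hq2 : q ≠ 2) (hr : r.Prime) (hr2 : r ≠ 2)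
    {y c : G} (hy : orderOf y = q) (hc : orderOf c = r) (hn : c ∈ normalizer (zpowers y : Set G))
    {T : Subgroup G} (hT : IsPGroup 2 T) (hne : T ≠ ⊥) (hyT : y ∈ normalizer (T : Set G))
    (hcT : c ∈ normalizer (T : Set G)) : c ∈ zpowers y := by
  by_contra hnot
  haveI := Fact.mk hq
  set A := zpowers y ⊔ zpowers c with hA
  have hcard : Nat.card A = q * r := by
    rw [hA, Solvable.card_sup_of_disjoint (zpowers_le.mpr hn) (not_mem_zpowers_card hr hc hnot),
      Nat.card_zpowers, Nat.card_zpowers, hy, hc]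
  have hfpf : ∀ a ∈ A, a ≠ 1 → T ⊓ centralizer {a} = ⊥ := by
    intro a ha ha1
    rw [eq_bot_iff]
    intro d hd
    rw [mem_bot]
    rcases exists_prime_dvd_or_two_pow (orderOf a) (orderOf_pos a).ne' with ⟨k, hk⟩ | ⟨s, hs, hs2, hsd⟩
    · exfalso
      have h1 : orderOf a ∣ q * r := by
        rw [← hcard, ← Nat.card_zpowers]; exact card_dvd_of_le (zpowers_le.mpr ha)
      have hco : (orderOf a).Coprime (q * r) := by
        rw [hk]
        refine Nat.Coprime.pow_left k (Nat.Coprime.mul_right ?_ ?_)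
        · exact (Nat.coprime_primes Nat.prime_two hq).mpr hq2.symm
        · exact (Nat.coprime_primes Nat.prime_two hr).mpr hr2.symm
      exact ha1 (orderOf_eq_one_iff.mp (Nat.eq_one_of_dvd_coprimes hco dvd_rfl h1))
    · exact h.free hs hs2 (h.order_eq hs hs2 hsd) hT hd.1
        (mem_centralizer_singleton_iff.mp hd.2).symm
  have hcyc : IsCyclic A := Solvable.isCyclic_of_fpf hne
    (sup_le (zpowers_le.mpr hyT) (zpowers_le.mpr hcT)) hfpf (Or.inr ⟨q, r, hq, hr, hcard⟩)
  obtain ⟨g, hg⟩ := IsCyclic.exists_generator (α := A)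
  have ho : orderOf (g : G) = q * r := by
    rw [Subgroup.orderOf_coe, orderOf_eq_card_of_forall_mem_zpowers hg, hcard]
  have e := h.order_eq hq hq2 (ho ▸ dvd_mul_right q r)
  rw [ho] at e
  have := hr.two_le
  have := hq.pos
  nlinarith

omit [Finite G] in
/-- An involution normalising the subgroup of an element of odd prime order inverts it. -/
theorem Spec.inverts (h : Spec G) {q : ℕ} (hq : q.Prime) (hq2 : q ≠ 2) {y t : G} (hy : orderOf y = q)
    (ht : orderOf t = 2) (hn : t ∈ normalizer (zpowers y : Set G)) : t * y * t = y⁻¹ := by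
  have htt : t * t = 1 := by rw [← pow_two, ← ht]; exact pow_orderOf_eq_one t
  have htinv : t⁻¹ = t := inv_eq_of_mul_eq_one_right htt
  have hmem : t * y * t⁻¹ ∈ zpowers y := (mem_normalizer_iff.mp hn y).mp (mem_zpowers y)
  rw [htinv] at hmem
  obtain ⟨m, hm⟩ := mem_zpowers_iff.mp hmem
  set w := y * (t * y * t) with hw
  have hwy : w ∈ zpowers y := mul_mem (mem_zpowers y) hmem
  have hcomm : y * (t * y * t) = t * y * t * y := by
    rw [← hm]; exact ((Commute.refl y).zpow_right m).eq
  have hwt : w * t = t * w := by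
    rw [hw]
    calc y * (t * y * t) * t = y * t * y * (t * t) := by group
      _ = y * t * y := by rw [htt, mul_one]
      _ = t * t * (y * t * y) := by rw [htt, one_mul]
      _ = t * (t * y * t * y) := by group
      _ = t * (y * (t * y * t)) := by rw [hcomm]
  have hw1 : w = 1 := by
    by_contra hne
    have hd : orderOf w ∣ q := hy ▸ by
      rw [← Nat.card_zpowers, ← Nat.card_zpowers]; exact card_dvd_of_le (zpowers_le.mpr hwy)
    rcases (Nat.dvd_prime hq).mp hd with e | e
    · exact hne (orderOf_eq_one_iff.mp e)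
    · exact h.no_commute_involution hq hq2 e ht hwt
  exact eq_inv_of_mul_eq_one_right hw1

end CfsgLib.SevenSpectrum
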