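import Mathlib
import Cfsg.Agent.Lib.SevenSpectrum.Basic
import Cfsg.Agent.Lib.SixSpectrum.Main

/-!
# Solvable subgroups with a nontrivial 2-core: `X = O₂(X) N_X(⟨y⟩)` with `y` of odd prime order
-/

set_option autoImplicit false

namespace CfsgLib.SevenSpectrum

open Subgroup Cfsg

universe u

variable {G : Type u} [Group G] [Finite G]

/-- An element commuting with `y` lies in `⟨y⟩` when both act on a nontrivial 2-group. -/
theorem Spec.mem_zpowers_of_commute (h : Spec G) {q : ℕ} (hq : q.Prime) (hq2 : q ≠ 2) {y c : G}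
    (hy : orderOf y = q) (hc : c * y = y * c) {T : Subgroup G} (hT : IsPGroup 2 T) (hne : T ≠ ⊥)
    (hyT : y ∈ normalizer (T : Set G)) (hcT : c ∈ normalizer (T : Set G)) : c ∈ zpowers y := by
  by_cases hc1 : c = 1
  · rw [hc1]; exact one_mem _
  rcases exists_prime_dvd_or_two_pow (orderOf c) (orderOf_pos c).ne' with ⟨k, hk⟩ | ⟨r, hr, hr2, hd⟩
  · exfalso
    obtain ⟨t, ht, ht2⟩ := exists_involution_of_two_pow hc1 hk
    obtain ⟨m, rfl⟩ := mem_zpowers_iff.mp ht
    exact h.no_commute_involution hq hq2 hy ht2 ((show Commute y c from hc.symm).zpow_right m).eq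
  · refine h.no_normalizing hq hq2 hr hr2 hy (h.order_eq hr hr2 hd) ?_ hT hne hyT hcT
    refine centralizer_le_normalizer _ (mem_centralizer_iff.mpr fun z hz => ?_)
    obtain ⟨m, rfl⟩ := mem_zpowers_iff.mp hz
    exact ((show Commute c y from hc).zpow_right m).eq.symm

/-- The element `y` and the decomposition of a solvable group with nontrivial 2-core. -/
structure LocalData (X D : Subgroup G) (q : ℕ) (y : G) : Prop where
  prime : q.Prime
  ne_two : q ≠ 2
  order : orderOf y = q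
  mem : y ∈ X
  split : ∀ g ∈ X, ∃ d ∈ D, ∃ k ∈ X, k ∈ normalizer (zpowers y : Set G) ∧ g = d * k
  inter : ∀ d ∈ D, d ∈ normalizer (zpowers y : Set G) → d = 1

theorem exists_local_split {Y : Type u} [Group Y] [Finite Y] (h : Spec Y) (hsol : Group.IsSolvable Y)
    (hne : pCore 2 Y ≠ ⊥) (htop : pCore 2 Y ≠ ⊤) :
    ∃ (q : ℕ) (y : Y), q.Prime ∧ q ≠ 2 ∧ orderOf y = q ∧
      ∀ g : Y, ∃ d ∈ pCore 2 Y, ∃ k ∈ normalizer (zpowers y : Set Y), g = d * k := by
  classical
  haveI : Fact (Nat.Prime 2) := ⟨Nat.prime_two⟩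
  set D := pCore 2 Y with hD
  have hDp : IsPGroup 2 D := Cores.isPGroup_pCore 2
  haveI : D.Normal := by
    haveI := Cores.pCore_characteristic (G := Y) 2
    infer_instance
  set π := QuotientGroup.mk' D with hπ
  have hπs : Function.Surjective π := QuotientGroup.mk'_surjective D
  have hQ : Spec (Y ⧸ D) := h.of_surjective π hπs
  -- no normal 2-subgroup in the quotient
  have hbot : ∀ N : Subgroup (Y ⧸ D), N.Normal → IsPGroup 2 N → N = ⊥ := by
    intro N hN hNp
    have hk : IsPGroup 2 π.ker := by rw [hπ, QuotientGroup.ker_mk']; exact hDp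
    haveI : (N.comap π).Normal := hN.comap π
    have hle : N.comap π ≤ D := Cores.le_pCore (hNp.comap_of_ker_isPGroup π hk)
    rw [eq_bot_iff]
    intro x hx
    obtain ⟨g, rfl⟩ := hπs x
    exact mem_bot.mpr ((QuotientGroup.eq_one_iff g).mpr (hle hx))
  haveI : Nontrivial (Y ⧸ D) := QuotientGroup.nontrivial_iff.mpr htop
  -- an abelian normal subgroup
  obtain ⟨A, ⟨hAn, hA1⟩, hmin⟩ := Set.exists_min_image {N : Subgroup (Y ⧸ D) | N.Normal ∧ N ≠ ⊥}
    (fun N => Nat.card N) (Set.toFinite _) ⟨⊤, inferInstance, top_ne_bot⟩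
  haveI := hAn
  have hAs : Group.IsSolvable A := by
    haveI := hsol
    haveI := Group.isSolvable_of_surjective (f := π) hπs
    infer_instance
  have hcomm : ∀ a ∈ A, ∀ b ∈ A, a * b = b * a := by
    have hc : ⁅A, A⁆ = ⊥ := by
      by_contra hne'
      have hlt := Solvable.commutator_self_lt hAs hA1
      exact hlt.ne (eq_of_le_of_card_ge hlt.le (hmin _ ⟨inferInstance, hne'⟩))
    intro a ha b hb
    exact commutatorElement_eq_one_iff_mul_comm.mp (mem_bot.mp (hc ▸ commutator_mem_commutator ha hb))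
  have hno2 : ∀ a ∈ A, a * a = 1 → a = 1 := by
    intro a ha haa
    let E : Subgroup (Y ⧸ D) :=
      { carrier := {b | b ∈ A ∧ b * b = 1}
        one_mem' := ⟨one_mem _, one_mul 1⟩
        mul_mem' := fun {b c} hb hc => ⟨mul_mem hb.1 hc.1, by
          rw [show b * c * (b * c) = b * (c * b) * c by group, hcomm c hc.1 b hb.1,
            show b * (b * c) * c = (b * b) * (c * c) by group, hb.2, hc.2, one_mul]⟩
        inv_mem' := fun {b} hb => ⟨inv_mem hb.1, by rw [← mul_inv_rev, hb.2, inv_one]⟩ }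
    have hEn : E.Normal := ⟨fun b hb g => ⟨hAn.conj_mem b hb.1 g, by
      rw [show g * b * g⁻¹ * (g * b * g⁻¹) = g * (b * b) * g⁻¹ by group, hb.2, mul_one, mul_inv_cancel]⟩⟩
    have hEp : IsPGroup 2 E := fun b => ⟨1, Subtype.ext (by
      show (b : Y ⧸ D) ^ (2 ^ 1) = 1
      rw [pow_one, pow_two]; exact b.2.2)⟩
    have hE := hbot E hEn hEp
    exact mem_bot.mp (hE ▸ (⟨ha, haa⟩ : a ∈ E))
  have hord : ∀ a ∈ A, a ≠ 1 → (orderOf a).Prime ∧ orderOf a ≠ 2 := by
    intro a ha ha1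
    rcases exists_prime_dvd_or_two_pow (orderOf a) (orderOf_pos a).ne' with ⟨k, hk⟩ | ⟨q, hq, hq2, hd⟩
    · exfalso
      obtain ⟨t, ht, ht2⟩ := exists_involution_of_two_pow ha1 hk
      have ht1 : t = 1 := hno2 t (zpowers_le.mpr ha ht) (by rw [← pow_two, ← ht2]; exact pow_orderOf_eq_one t)
      rw [ht1, orderOf_one] at ht2
      exact absurd ht2 (by norm_num)
    · rw [hQ.order_eq hq hq2 hd]
      exact ⟨hq, hq2⟩
  obtain ⟨⟨a, ha⟩, ha1'⟩ := A.ne_bot_iff_exists_ne_one.mp hA1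
  have ha1 : a ≠ 1 := fun e => ha1' (Subtype.ext e)
  obtain ⟨hq, hq2⟩ := hord a ha ha1
  set q := orderOf a with hqdef
  haveI : Fact q.Prime := ⟨hq⟩
  have hAq : IsPGroup q A := by
    intro b
    by_cases hb : (b : Y ⧸ D) = 1
    · exact ⟨0, by simp [Subtype.ext_iff, hb]⟩
    obtain ⟨hr, hr2⟩ := hord b b.2 hb
    have he : orderOf (b : Y ⧸ D) = q := by
      by_contra hne'
      exact hQ.not_commute hr hq hr2 hne' rfl hqdef.symm (hcomm b b.2 a ha)
    exact ⟨1, Subtype.ext (by rw [pow_one, SubgroupClass.coe_pow, ← he]; exact pow_orderOf_eq_one _)⟩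
  -- lift
  obtain ⟨T, hT, hTA, hTD⟩ := SixSpectrum.exists_lift hq2.symm D hDp A hAq
  set K := A.comap π with hK
  haveI : K.Normal := hAn.comap π
  have hTK : T ≤ K := fun t ht => mem_comap.mpr (hTA ▸ mem_map_of_mem _ ht)
  obtain ⟨P, hP⟩ := (hT.comap_subtype (K := K)).exists_le_sylow
  set P' := (P : Subgroup K).map K.subtype with hP'
  have hP'p : IsPGroup q P' := P.2.map _
  have hP'D : P' ⊓ D = ⊥ := disjoint_iff.mp (IsPGroup.disjoint_of_ne q 2 hq2 _ _ hP'p hDp)
  have hP'K : P' ≤ K := map_subtype_le _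
  have hTP : T ≤ P' := fun t ht => ⟨⟨t, hTK ht⟩, hP (mem_subgroupOf.mpr ht), rfl⟩
  have hinj : ∀ x ∈ P', π x = 1 → x = 1 := fun x hx hx1 =>
    mem_bot.mp (hP'D ▸ mem_inf.mpr ⟨hx, (QuotientGroup.eq_one_iff x).mp hx1⟩)
  have hP'ne : P' ≠ ⊥ := by
    intro e
    have h1 : T = ⊥ := le_bot_iff.mp (hTP.trans e.le)
    rw [h1, Subgroup.map_bot] at hTA
    exact hA1 hTA.symm
  obtain ⟨⟨y, hyP⟩, hy1'⟩ := P'.ne_bot_iff_exists_ne_one.mp hP'ne
  have hy1 : y ≠ 1 := fun e => hy1' (Subtype.ext e)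
  have hyq : orderOf y = q := by
    obtain ⟨k, hk⟩ := IsPGroup.iff_orderOf.mp hP'p ⟨y, hyP⟩
    rw [Subgroup.orderOf_mk] at hk
    refine h.order_eq hq hq2 (hk ▸ dvd_pow_self q ?_)
    rintro rfl
    exact hy1 (orderOf_eq_one_iff.mp (by simpa using hk))
  have hnD : ∀ g : Y, g ∈ normalizer (D : Set Y) := fun g => by
    rw [normalizer_eq_top (H := D)]; exact mem_top g
  have hPy : P' = zpowers y := by
    refine le_antisymm (fun c hc => ?_) (zpowers_le.mpr hyP)
    refine h.mem_zpowers_of_commute hq hq2 hyq ?_ hDp hne (hnD y) (hnD c)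
    refine commutatorElement_eq_one_iff_mul_comm.mp (hinj _ ?_ ?_)
    · exact mul_mem (mul_mem (mul_mem hc hyP) (inv_mem hc)) (inv_mem hyP)
    · rw [map_commutatorElement]
      exact commutatorElement_eq_one_iff_mul_comm.mpr
        (hcomm _ (mem_comap.mp (hP'K hc)) _ (mem_comap.mp (hP'K hyP)))
  refine ⟨q, y, hq, hq2, hyq, fun g => ?_⟩
  have hsup : normalizer (P' : Set Y) ⊔ K = ⊤ := Sylow.normalizer_sup_eq_top P
  have hg : g ∈ (↑(K ⊔ normalizer (P' : Set Y)) : Set Y) := by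
    rw [sup_comm, hsup]; exact Set.mem_univ g
  rw [normal_mul] at hg
  obtain ⟨k₀, hk₀, n, hn, rfl⟩ := hg
  obtain ⟨t, ht, hte⟩ := hTA.ge (mem_comap.mp hk₀)
  have hd : k₀ * t⁻¹ ∈ D := (QuotientGroup.eq_one_iff _).mp (by
    show π (k₀ * t⁻¹) = 1
    rw [map_mul, map_inv, hte, mul_inv_cancel])
  refine ⟨k₀ * t⁻¹, hd, t * n, ?_, by group⟩
  rw [← hPy]
  exact mul_mem (le_normalizer (hTP ht)) hn

/-- Either `X` is a 2-group or it has the data `(q, y)`. -/
theorem exists_localData (h : Spec G) {X : Subgroup G} (hsol : Group.IsSolvable X)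
    (hne : pCoreOf 2 X ≠ ⊥) :
    X = pCoreOf 2 X ∨ ∃ (q : ℕ) (y : G), LocalData X (pCoreOf 2 X) q y := by
  haveI : Fact (Nat.Prime 2) := ⟨Nat.prime_two⟩
  by_cases htop : pCore 2 X = ⊤
  · left
    rw [pCoreOf, htop, ← MonoidHom.range_eq_map, Subgroup.range_subtype]
  right
  have hne' : pCore 2 X ≠ ⊥ := fun e => hne (by rw [pCoreOf, e, Subgroup.map_bot])
  obtain ⟨q, y, hq, hq2, hy, hsplit⟩ := exists_local_split (h.subgroup X) hsol hne' htop
  refine ⟨q, (y : G), hq, hq2, by rw [Subgroup.orderOf_coe, hy], y.2, ?_, ?_⟩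
  · intro g hg
    obtain ⟨d, hd, k, hk, he⟩ := hsplit ⟨g, hg⟩
    refine ⟨d, ⟨d, hd, rfl⟩, k, k.2, ?_, congrArg Subtype.val he⟩
    refine LocalEven.mem_normalizer_of_conj_le ?_
    rintro _ ⟨z, hz, rfl⟩
    obtain ⟨m, rfl⟩ := mem_zpowers_iff.mp hz
    obtain ⟨i, hi⟩ := mem_zpowers_iff.mp
      ((mem_normalizer_iff.mp hk (y ^ m)).mp (zpow_mem (mem_zpowers y) m))
    exact mem_zpowers_iff.mpr ⟨i, by simpa using congrArg Subtype.val hi⟩
  · intro d hd hdn
    have hDp := LocalEven.isPGroup_pCoreOf 2 X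
    refine h.free hq hq2 (y := (y : G)) (by rw [Subgroup.orderOf_coe, hy]) hDp hd ?_
    have hyN : (y : G) ∈ normalizer (pCoreOf 2 X : Set G) := LocalEven.le_normalizer_pCoreOf 2 X y.2
    refine commutatorElement_eq_one_iff_mul_comm.mp (mem_bot.mp ?_)
    have hdis : zpowers (y : G) ⊓ pCoreOf 2 X = ⊥ := disjoint_iff.mp (by
      haveI := Fact.mk hq
      exact IsPGroup.disjoint_of_ne q 2 hq2 _ _
        (IsPGroup.of_card (n := 1) (by rw [Nat.card_zpowers, Subgroup.orderOf_coe, hy, pow_one])) hDp)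
    rw [← hdis]
    refine mem_inf.mpr ⟨?_, ?_⟩
    · rw [commutatorElement_def, mul_assoc, mul_assoc]
      refine mul_mem (mem_zpowers _) ?_
      rw [← mul_assoc]
      exact (mem_normalizer_iff.mp hdn _).mp (inv_mem (mem_zpowers _))
    · rw [commutatorElement_def]
      exact mul_mem ((mem_normalizer_iff.mp hyN d).mp hd) (inv_mem hd)

namespace LocalData

variable {X D : Subgroup G} {q : ℕ} {y : G}

theorem mem_zpowers_of_odd (L : LocalData X D q y) (h : Spec G) (hD : IsPGroup 2 D) (hne : D ≠ ⊥)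
    (hXD : X ≤ normalizer (D : Set G)) {k : G} (hk : k ∈ X) (hkn : k ∈ normalizer (zpowers y : Set G))
    {r : ℕ} (hr : r.Prime) (hr2 : r ≠ 2) (hd : r ∣ orderOf k) : k ∈ zpowers y :=
  h.no_normalizing L.prime L.ne_two hr hr2 L.order (h.order_eq hr hr2 hd) hkn hD hne (hXD L.mem) (hXD hk)

/-- An element of the normaliser outside `⟨y⟩` has a power inverting `y`. -/
theorem exists_involution (L : LocalData X D q y) (h : Spec G) (hD : IsPGroup 2 D) (hne : D ≠ ⊥)
    (hXD : X ≤ normalizer (D : Set G)) {k : G} (hk : k ∈ X) (hkn : k ∈ normalizer (zpowers y : Set G))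
    (hky : k ∉ zpowers y) :
    ∃ t ∈ X, t ∈ normalizer (zpowers y : Set G) ∧ orderOf t = 2 := by
  rcases exists_prime_dvd_or_two_pow (orderOf k) (orderOf_pos k).ne' with ⟨j, hj⟩ | ⟨r, hr, hr2, hd⟩
  · obtain ⟨t, ht, ht2⟩ := exists_involution_of_two_pow (fun e => hky (by rw [e]; exact one_mem _)) hj
    exact ⟨t, zpowers_le.mpr hk ht, zpowers_le.mpr hkn ht, ht2⟩
  · exact absurd (L.mem_zpowers_of_odd h hD hne hXD hk hkn hr hr2 hd) hky

end LocalData

end CfsgLib.SevenSpectrum
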