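import Mathlib
import Cfsg.Agent.Lib.SevenSpectrum.Locals
import Cfsg.Agent.S0214
import Cfsg.Agent.S1225
import Cfsg.Agent.S0035

/-!
# Without offenders the normaliser of `J(S)` is strongly embedded, `= O₂(M)⟨y⟩`
-/

set_option autoImplicit false

namespace CfsgLib.SevenSpectrum

open Subgroup Cfsg SFreeLocals

universe u

variable {G : Type u} [Group G] [Finite G]

/-- `T` is maximal among the 2-subgroups of `X`. -/
def IsTop (X T : Subgroup G) : Prop :=
  T ≤ X ∧ IsPGroup 2 T ∧ ∀ R : Subgroup G, IsPGroup 2 R → T ≤ R → R ≤ X → R ≤ T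

/-- No 2-local has an elementary subgroup of largest order outside its 2-core. -/
def NoOffender (G : Type u) [Group G] : Prop :=
  ∀ T₀ : Subgroup G, IsPGroup 2 T₀ → T₀ ≠ ⊥ → ∀ T : Subgroup G, IsTop (normalizer (T₀ : Set G)) T →
    ∀ A, IsMaxEl T A → A ≤ pCoreOf 2 (normalizer (T₀ : Set G))

theorem le_normalizer_jTwo_of_noOffender (hJ : NoOffender G) {T₀ : Subgroup G} (hT₀ : IsPGroup 2 T₀)
    (hne : T₀ ≠ ⊥) {T : Subgroup G} (hT : IsTop (normalizer (T₀ : Set G)) T) :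
    normalizer (T₀ : Set G) ≤ normalizer (jTwo T : Set G) := by
  haveI : Fact (Nat.Prime 2) := ⟨Nat.prime_two⟩
  set X := normalizer (T₀ : Set G) with hX
  set D := pCoreOf 2 X with hD
  have hXD : X ≤ normalizer (D : Set G) := LocalEven.le_normalizer_pCoreOf 2 X
  have hDT : D ≤ T := le_sup_right.trans
    (hT.2.2 (T ⊔ D) (hT.2.1.to_sup_of_normal_right' (LocalEven.isPGroup_pCoreOf 2 X) (hT.1.trans hXD))
      le_sup_left (sup_le hT.1 (LocalEven.pCoreOf_le 2 X)))
  rw [← jTwo_eq_of_le hDT (jTwo_le_of_forall fun A hA => hJ T₀ hT₀ hne T hT A hA)]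
  exact hXD.trans (normalizer_le_normalizer_jTwo D)

theorem exists_maximal_two {X U : Subgroup G} (hU : IsPGroup 2 U) (hUX : U ≤ X) :
    ∃ T : Subgroup G, U ≤ T ∧ IsTop X T := by
  obtain ⟨P, hP⟩ := (hU.of_equiv (subgroupOfEquivOfLe hUX).symm).exists_le_sylow
  refine ⟨(P : Subgroup X).map X.subtype, fun x hx => ⟨⟨x, hUX hx⟩, hP hx, rfl⟩, map_subtype_le _, P.2.map _,
    fun R hR h1 h2 => ?_⟩
  have h3 : R.subgroupOf X = (P : Subgroup X) :=
    P.3 (hR.of_equiv (subgroupOfEquivOfLe h2).symm) fun x hx => h1 ⟨x, hx, rfl⟩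
  rw [← h3, Subgroup.map_subgroupOf_eq_of_le h2]

theorem jTwo_ne_bot {S : Subgroup G} (hS : IsPGroup 2 S) (hne : S ≠ ⊥) : jTwo S ≠ ⊥ := fun e =>
  zTwo_ne_bot hS hne (le_bot_iff.mp (zTwo_le_jTwo.trans e.le))

/-- The normaliser of `J(S)` contains the normalisers of its nontrivial 2-subgroups. -/
theorem normalizer_le_of_noOffender (hJ : NoOffender G) (S : Sylow 2 G) {T₀ : Subgroup G}
    (hT₀ : IsPGroup 2 T₀) (hne₀ : T₀ ≠ ⊥) (hT₀M : T₀ ≤ normalizer (jTwo (S : Subgroup G) : Set G)) :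
    normalizer (T₀ : Set G) ≤ normalizer (jTwo (S : Subgroup G) : Set G) := by
  haveI : Fact (Nat.Prime 2) := ⟨Nat.prime_two⟩
  set M := normalizer (jTwo (S : Subgroup G) : Set G) with hM
  have hSM : (S : Subgroup G) ≤ M := le_normalizer.trans (normalizer_le_normalizer_jTwo _)
  suffices h : ∀ (k : ℕ) (T U : Subgroup G), IsPGroup 2 T → T ≠ ⊥ → T ≤ M → IsPGroup 2 U →
      U ≤ normalizer (T : Set G) ⊓ M → Nat.card (S : Subgroup G) ≤ Nat.card U + k →
      normalizer (T : Set G) ≤ M from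
    h (Nat.card (S : Subgroup G)) T₀ ⊥ hT₀ hne₀ hT₀M IsPGroup.of_bot bot_le (Nat.le_add_left _ _)
  intro k
  induction k using Nat.strong_induction_on with
  | _ k ih =>
  intro T U hT hne hTM hU hUle hk
  obtain ⟨U₁, hUU₁, hU₁D, hU₁p, hU₁max⟩ := exists_maximal_two hU hUle
  have hTU₁ : T ≤ U₁ := le_sup_right.trans
    (hU₁max (U₁ ⊔ T) (hU₁p.to_sup_of_normal_right' hT (hU₁D.trans inf_le_left)) le_sup_left
      (sup_le hU₁D (le_inf le_normalizer hTM)))
  have hU₁ne : U₁ ≠ ⊥ := fun e => hne (le_bot_iff.mp (hTU₁.trans e.le))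
  -- a Sylow 2-subgroup in `M` over `U₁`
  obtain ⟨P, hP⟩ := (hU₁p.of_equiv (subgroupOfEquivOfLe (hU₁D.trans inf_le_right)).symm).exists_le_sylow
  obtain ⟨m, hm⟩ := MulAction.exists_smul_eq M (S.subtype hSM) P
  set S₁ := cj (m : G) (S : Subgroup G) with hS₁
  have hmM : (m : G) ∈ M := m.2
  have hS₁M : S₁ ≤ M := by
    rintro _ ⟨s, hs, rfl⟩
    exact mul_mem (mul_mem hmM (hSM hs)) (inv_mem hmM)
  have hU₁S₁ : U₁ ≤ S₁ := by
    intro u hu
    have huM : u ∈ M := (hU₁D hu).2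
    have h1 : (⟨u, huM⟩ : M) ∈ (P : Subgroup M) := hP hu
    rw [← hm, Sylow.coe_subgroup_smul] at h1
    obtain ⟨w, hw, he⟩ := h1
    exact ⟨(w : G), hw, congrArg Subtype.val he⟩
  have hS₁p : IsPGroup 2 S₁ := S.2.map _
  have hS₁card : Nat.card S₁ = Nat.card (S : Subgroup G) := LocalEven.card_map_conj _ _
  have hJM : normalizer (jTwo S₁ : Set G) ≤ M := by
    intro g hg
    rw [hS₁, ← jTwo_cj] at hg
    have hconj : (m : G)⁻¹ * g * m ∈ M := by
      refine mem_normalizer_of_cj_le ?_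
      rw [← cj_cj, ← cj_cj, cj_eq_self hg, cj_cj, inv_mul_cancel, cj_one]
    have := mul_mem (mul_mem hmM hconj) (inv_mem hmM)
    simpa [mul_assoc] using this
  by_cases hfull : S₁ = U₁
  · have hnorm : IsTop (normalizer (T : Set G)) U₁ := by
      refine ⟨hU₁D.trans inf_le_left, hU₁p, fun R hR h1 _ => ?_⟩
      obtain ⟨Q, hQ⟩ := hR.exists_le_sylow
      have : U₁ = (Q : Subgroup G) := eq_of_le_of_card_ge (h1.trans hQ) (by
        rw [← hfull, hS₁card]; exact (Nat.card_congr (Q.equiv S).toEquiv).le)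
      exact hQ.trans this.ge
    exact (le_normalizer_jTwo_of_noOffender hJ hT hne hnorm).trans (hfull ▸ hJM)
  set U₂ := S₁ ⊓ normalizer (U₁ : Set G) with hU₂
  have hlt : U₁ < U₂ := lt_of_le_of_ne (le_inf hU₁S₁ le_normalizer) fun h =>
    hfull (LocalEven.eq_of_inf_normalizer_le hS₁p hU₁S₁ h.ge).symm
  have hcard : Nat.card U₁ < Nat.card U₂ := lt_of_le_of_ne (card_le_of_le hlt.le)
    fun h => hlt.ne (eq_of_le_of_card_ge hlt.le h.ge)
  have hcU : Nat.card U ≤ Nat.card U₁ := card_le_of_le hUU₁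
  have hsucc : ∀ X : Subgroup G, X ≤ U₁ → X ≠ ⊥ →
      normalizer (U₁ : Set G) ≤ normalizer (X : Set G) → normalizer (X : Set G) ≤ M := by
    intro X hX hXne hN
    have hc₂ : Nat.card U₂ ≤ Nat.card (S : Subgroup G) := hS₁card ▸ card_le_of_le inf_le_left
    exact ih (k - 1) (by omega) X U₂ (hU₁p.to_le hX) hXne (hX.trans (hU₁D.trans inf_le_right))
      (hS₁p.to_le inf_le_left) (le_inf (inf_le_right.trans hN) (inf_le_left.trans hS₁M)) (by omega)
  have hNU : normalizer (U₁ : Set G) ≤ M := hsucc U₁ le_rfl hU₁ne le_rfl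
  have hnorm : IsTop (normalizer (T : Set G)) U₁ := by
    refine ⟨hU₁D.trans inf_le_left, hU₁p, fun R hR h1 h2 => ?_⟩
    have hle := hU₁max (R ⊓ normalizer (U₁ : Set G)) (hR.to_le inf_le_left) (le_inf h1 le_normalizer)
      (le_inf (inf_le_left.trans h2) (inf_le_right.trans hNU))
    exact (LocalEven.eq_of_inf_normalizer_le hR h1 hle).ge
  exact (le_normalizer_jTwo_of_noOffender hJ hT hne hnorm).trans
    (hsucc (jTwo U₁) (jTwo_le U₁) (jTwo_ne_bot hU₁p hU₁ne) (normalizer_le_normalizer_jTwo U₁))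

/-- The strongly embedded subgroup `D ⟨y⟩`. -/
structure EmbeddedData (G : Type u) [Group G] [Finite G] (M D : Subgroup G) (q : ℕ) (y z : G) : Prop where
  embedded : IsStronglyEmbedded M
  data : LocalData M D q y
  two : IsPGroup 2 D
  le : D ≤ M
  norm : M ≤ normalizer (D : Set G)
  split : ∀ g ∈ M, ∃ d ∈ D, ∃ w ∈ zpowers y, g = d * w
  z_mem : z ∈ D
  z_central : ∀ d ∈ D, d * z = z * d
  z_ord : orderOf z = 2
  invol_mem : ∀ t ∈ M, orderOf t = 2 → t ∈ D

theorem exists_embeddedData (h : Spec G) [IsSimpleGroup G] (hna : ¬ IsMulCommutative G)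
    (hsol : ∀ T : Subgroup G, IsPGroup 2 T → T ≠ ⊥ → Group.IsSolvable (normalizer (T : Set G)))
    (hJ : NoOffender G) (S : Sylow 2 G) (hS : (S : Subgroup G) ≠ ⊥) :
    ∃ (M D : Subgroup G) (q : ℕ) (y z : G), EmbeddedData G M D q y z := by
  classical
  haveI : Fact (Nat.Prime 2) := ⟨Nat.prime_two⟩
  set J := jTwo (S : Subgroup G) with hJdef
  have hJp : IsPGroup 2 J := S.2.to_le (jTwo_le _)
  have hJne : J ≠ ⊥ := jTwo_ne_bot S.2 hS
  set M := normalizer (J : Set G) with hM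
  have hSM : (S : Subgroup G) ≤ M := le_normalizer.trans (normalizer_le_normalizer_jTwo _)
  have hMtop : M ≠ ⊤ := by
    intro htop
    haveI : J.Normal := normalizer_eq_top_iff.mp htop
    rcases (inferInstance : J.Normal).eq_bot_or_eq_top with e | e
    · exact hJne e
    · have hG : IsPGroup 2 G := hJp.of_equiv ((MulEquiv.subgroupCongr e).trans topEquiv)
      haveI := hG.center_nontrivial
      rcases IsSimpleGroup.eq_bot_or_eq_top_of_normal (center G) inferInstance with e' | e'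
      · exact absurd e' ((Subgroup.nontrivial_iff_ne_bot _).mp ‹_›)
      · exact hna ⟨⟨fun x y => (mem_center_iff.mp (e' ▸ mem_top x) y).symm⟩⟩
  have hP : ((S.subtype hSM : Sylow 2 M) : Subgroup M) ≠ ⊥ := fun e => hS (by
    rw [← Subgroup.map_subgroupOf_eq_of_le hSM]
    show ((S.subtype hSM : Sylow 2 M) : Subgroup M).map M.subtype = ⊥
    rw [e, Subgroup.map_bot])
  have hSE : IsStronglyEmbedded M := (Cfsg.Agent.S0214.result M hMtop (S.subtype hSM) hP).mpr
    fun X hX hXne => normalizer_le_of_noOffender hJ S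
      (((S.subtype hSM).2.to_le hX).map _) (fun e => hXne ((map_eq_bot_iff_of_injective _ M.subtype_injective).mp e))
      (map_subtype_le _)
  set D := pCoreOf 2 M with hD
  have hDp : IsPGroup 2 D := LocalEven.isPGroup_pCoreOf 2 M
  have hDM : D ≤ M := LocalEven.pCoreOf_le 2 M
  have hMD : M ≤ normalizer (D : Set G) := LocalEven.le_normalizer_pCoreOf 2 M
  have hJD : J ≤ D := LocalEven.le_pCoreOf le_normalizer hJp le_rfl
  have hDne : D ≠ ⊥ := fun e => hJne (le_bot_iff.mp (hJD.trans e.le))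
  obtain ⟨s, hsD, hs⟩ := exists_involution_mem hDp hDne
  obtain ⟨u, hu, huM⟩ : ∃ u : G, orderOf u = 2 ∧ u ∉ M := by
    by_contra hall
    push_neg at hall
    have hle : normalClosure ({s} : Set G) ≤ M := by
      refine (closure_le _).mpr fun w hw => ?_
      obtain ⟨a, ha, hc⟩ := Group.mem_conjugatesOfSet_iff.mp hw
      rw [Set.mem_singleton_iff] at ha
      subst ha
      obtain ⟨g, rfl⟩ := isConj_iff.mp hc
      exact hall _ (((MulAut.conj g).orderOf_eq a).trans hs)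
    rcases (normalClosure_normal (s := ({s} : Set G))).eq_bot_or_eq_top with e | e
    · have : s = 1 := mem_bot.mp (e ▸ subset_normalClosure rfl)
      rw [this, orderOf_one] at hs; omega
    · exact hMtop (eq_top_iff.mpr (e ▸ hle))
  have hinv : ∀ t ∈ M, orderOf t = 2 → t ∈ D := by
    intro t htM ht
    obtain ⟨d, hd, rfl⟩ := (Cfsg.Agent.S1225.result M hSE u hu huM s t hs (hDM hsD) ht htM).1
    exact (mem_normalizer_iff.mp (hMD hd.1) s).mp hsD
  rcases exists_localData h (hsol J hJp hJne) hDne with he | ⟨q, y, L⟩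
  · -- a self-normalising strongly embedded 2-group
    exfalso
    have hMp : IsPGroup 2 M := hDp.of_equiv (MulEquiv.subgroupCongr he.symm)
    have hMne : M ≠ ⊥ := fun e => hDne (le_bot_iff.mp (hDM.trans e.le))
    have hfr : IsFrobeniusComplement M := by
      refine ⟨hMne, hMtop, fun g hg => ?_⟩
      show M ⊓ M.map (MulAut.conj g).toMonoidHom = ⊥
      obtain ⟨j, hj⟩ := IsPGroup.iff_card.mp
        (hMp.to_le (inf_le_left : M ⊓ M.map (MulAut.conj g).toMonoidHom ≤ M))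
      refine card_eq_one.mp ?_
      have hodd := hSE.2.2 g hg
      rw [hj] at hodd ⊢
      rcases j with - | j
      · rfl
      · exact absurd hodd (Nat.not_odd_iff_even.mpr (Nat.even_pow.mpr ⟨even_two, Nat.succ_ne_zero j⟩))
    obtain ⟨N, -, hN, hc⟩ := Cfsg.Agent.S0035.result M hfr
    rcases hN.eq_bot_or_eq_top with rfl | rfl
    · exact hMtop (isComplement'_bot_left.mp hc)
    · exact hMne (isComplement'_top_left.mp hc)
  have hsplit : ∀ g ∈ M, ∃ d ∈ D, ∃ w ∈ zpowers y, g = d * w := by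
    intro g hg
    obtain ⟨d, hd, k, hk, hkn, rfl⟩ := L.split g hg
    refine ⟨d, hd, k, ?_, rfl⟩
    by_contra hky
    obtain ⟨t, ht, htn, ht2⟩ := L.exists_involution h hDp hDne hMD hk hkn hky
    have ht1 := L.inter t (hinv t ht ht2) htn
    rw [ht1, orderOf_one] at ht2
    omega
  obtain ⟨⟨z, hz⟩, hz1⟩ := (zTwo D).ne_bot_iff_exists_ne_one.mp (zTwo_ne_bot hDp hDne)
  exact ⟨M, D, q, y, z, hSE, L, hDp, hDM, hMD, hsplit, hz.1, hz.2.2,
    orderOf_eq_prime (by rw [pow_two]; exact hz.2.1) (fun e => hz1 (Subtype.ext e)), hinv⟩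

end CfsgLib.SevenSpectrum
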