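import Mathlib
import Cfsg.Agent.Lib.SevenSpectrum.Basic
import Cfsg.Agent.S2475
import Cfsg.Agent.S0243
import Cfsg.Agent.Lib.Char.Burnside

/-!
# `PSL₂(q)` with element orders powers of two or primes different from five: `q = 7`
-/

set_option autoImplicit false

namespace CfsgLib.SevenSpectrum

universe u

theorem three_dvd_pair (e : ℕ) : 3 ∣ 2 ^ e - 1 ∨ 3 ∣ 2 ^ e + 1 := by
  induction e with
  | zero => left; norm_num
  | succ n ih =>
    have : 1 ≤ 2 ^ n := Nat.one_le_two_pow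
    rw [pow_succ]
    omega

theorem three_pow_mod_eight (j : ℕ) : 3 ^ j % 8 = 1 ∨ 3 ^ j % 8 = 3 := by
  induction j with
  | zero => left; norm_num
  | succ n ih => rw [pow_succ, Nat.mul_mod]; omega

/-- A power of three next to a power of two. -/
theorem three_pow_near_two_pow {j e : ℕ} (h : 3 ^ j + 1 = 2 ^ e ∨ 3 ^ j = 2 ^ e + 1) : e ≤ 3 := by
  rcases h with h | h
  · by_contra he
    have h8 : 8 ∣ 2 ^ e := pow_dvd_pow 2 (show 3 ≤ e by omega)
    rcases three_pow_mod_eight j with hj | hj <;> omega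
  · by_contra he
    have h16 : 2 ^ 4 ∣ 2 ^ e := pow_dvd_pow 2 (show 4 ≤ e by omega)
    obtain ⟨i, hi | hi⟩ : ∃ i, j = 2 * i ∨ j = 2 * i + 1 := ⟨j / 2, by omega⟩
    · have hfac : (3 ^ i - 1) * (3 ^ i + 1) = 2 ^ e := by
        have hi1 : 1 ≤ 3 ^ i := Nat.one_le_pow _ _ (by norm_num)
        have h' : 3 ^ i * 3 ^ i = 2 ^ e + 1 := by rw [← h, hi, two_mul, pow_add]
        obtain ⟨t, ht⟩ : ∃ t, 3 ^ i = t + 1 := ⟨3 ^ i - 1, by omega⟩
        rw [ht] at h' ⊢
        rw [Nat.add_sub_cancel]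
        nlinarith
      obtain ⟨u, -, hu⟩ := (Nat.dvd_prime_pow Nat.prime_two).mp (hfac ▸ dvd_mul_right (3 ^ i - 1) (3 ^ i + 1))
      obtain ⟨w, -, hw⟩ := (Nat.dvd_prime_pow Nat.prime_two).mp (hfac ▸ dvd_mul_left (3 ^ i + 1) (3 ^ i - 1))
      have hi1 : 1 ≤ 3 ^ i := Nat.one_le_pow _ _ (by norm_num)
      have hu2 : u ≤ 1 := by
        by_contra hu1
        have h4u : 4 ∣ 2 ^ u := pow_dvd_pow 2 (show 2 ≤ u by omega)
        have h4w : 4 ∣ 2 ^ w := pow_dvd_pow 2 (show 2 ≤ w by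
          by_contra hw1
          have : 2 ^ w ≤ 2 ^ 1 := Nat.pow_le_pow_right (by norm_num) (by omega)
          have : 2 ^ 2 ≤ 2 ^ u := Nat.pow_le_pow_right (by norm_num) (by omega)
          omega)
        omega
      interval_cases u
      · have h3 : 3 ^ i = 2 := by omega
        rw [h3] at hfac
        norm_num at hfac
        omega
      · have h3 : 3 ^ i = 3 := by omega
        rw [h3] at hfac
        norm_num at hfac
        omega
    · have h8 : 3 ^ j % 8 = 3 := by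
        rw [hi, pow_succ, pow_mul, Nat.mul_mod, Nat.pow_mod]
        norm_num
      omega

theorem spec_arith {q p o e : ℕ} (hp : p.Prime) (hp5 : p ≠ 5) (hq : ∃ n, q = p ^ n) (ho : o.Prime) (ho5 : o ≠ 5)
    (h4 : 4 ≤ q) (hform : (q = 2 ^ (e + 1) + 1 ∧ o = 2 ^ e + 1) ∨ (q + 1 = 2 ^ (e + 1) ∧ o + 1 = 2 ^ e)) :
    q = 7 := by
  obtain ⟨n, hn⟩ := hq
  have h1 : 1 ≤ 2 ^ e := Nat.one_le_two_pow
  have he2 : 2 ^ (e + 1) = 2 * 2 ^ e := pow_succ' 2 e
  rcases three_dvd_pair e with h3 | h3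
  · rcases hform with ⟨hq', ho'⟩ | ⟨hq', ho'⟩
    · have hp3 : p = 3 := ((Nat.prime_dvd_prime_iff_eq Nat.prime_three hp).mp
        (Nat.prime_three.dvd_of_dvd_pow (n := n) (by rw [← hn]; omega))).symm
      subst hp3
      have hle := three_pow_near_two_pow (j := n) (e := e + 1) (Or.inr (by omega))
      have : e ≤ 2 := by omega
      interval_cases e <;> omega
    · have ho3 : o = 3 := ((Nat.prime_dvd_prime_iff_eq Nat.prime_three ho).mp (by omega)).symm
      have he' : 2 ^ e = 2 ^ 2 := by omega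
      have := Nat.pow_right_injective (le_refl 2) he'
      subst this
      omega
  · rcases hform with ⟨hq', ho'⟩ | ⟨hq', ho'⟩
    · have ho3 : o = 3 := ((Nat.prime_dvd_prime_iff_eq Nat.prime_three ho).mp (by omega)).symm
      have he' : 2 ^ e = 2 ^ 1 := by omega
      have := Nat.pow_right_injective (le_refl 2) he'
      subst this
      have h5 : p = 5 := ((Nat.prime_dvd_prime_iff_eq (by norm_num) hp).mp
        ((show Nat.Prime 5 by norm_num).dvd_of_dvd_pow (n := n) (by rw [← hn]; omega))).symm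
      exact absurd h5 hp5
    · have hp3 : p = 3 := ((Nat.prime_dvd_prime_iff_eq Nat.prime_three hp).mp
        (Nat.prime_three.dvd_of_dvd_pow (n := n) (by rw [← hn]; omega))).symm
      subst hp3
      have hle := three_pow_near_two_pow (j := n) (e := e + 1) (Or.inl (by omega))
      have : e ≤ 2 := by omega
      interval_cases e <;> omega

theorem card_field_eq_seven {G : Type u} [Group G] [Finite G] (h : Spec G) (hns : ¬ Group.IsSolvable G)
    {F : Type} [Field F] [Fintype F] (e : G ≃* Matrix.ProjectiveSpecialLinearGroup (Fin 2) F) :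
    Fintype.card F = 7 := by
  classical
  set q := Fintype.card F with hq
  have h4 : 4 ≤ q := by
    by_contra hlt
    have hc := Cfsg.Agent.S0243.result (F := F) rfl 2 le_rfl
    rw [Fin.prod_univ_two, ← Nat.card_congr e.toEquiv, ← hq] at hc
    simp only [Fin.val_zero, Fin.val_one, pow_zero, pow_one] at hc
    have h2 : 2 ≤ q := Fintype.one_lt_card
    refine hns (CfsgLib.Char.isSolvable_of_card_eq_pow_mul_pow Nat.prime_two Nat.prime_three (a := 2) (b := 1) ?_)
    interval_cases q <;> norm_num at hc <;> first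
      | (rw [show Nat.card G = 6 by omega]; norm_num)
      | (rw [show Nat.card G = 12 by omega]; norm_num)
  obtain ⟨p, hchar⟩ := CharP.exists F
  haveI : Fact p.Prime := ⟨(CharP.char_is_prime F p)⟩
  have hp : p.Prime := Fact.out
  obtain ⟨n, -, hn⟩ := FiniteField.card F p
  have hspec := Cfsg.Agent.S2475.result (F := F) p h4
  have hmem : ∀ m : ℕ, m ∣ p ∨ m ∣ (q - 1) / Nat.gcd 2 (q - 1) ∨ m ∣ (q + 1) / Nat.gcd 2 (q - 1) →
      1 < m → (∃ k, m = 2 ^ k) ∨ (m.Prime ∧ m ≠ 5) := by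
    intro m hm h1
    obtain ⟨g, hg⟩ : m ∈ Set.range (orderOf : Matrix.ProjectiveSpecialLinearGroup (Fin 2) F → ℕ) := by
      rw [hspec]; exact hm
    have ho : orderOf (e.symm g) = m := by rw [MulEquiv.orderOf_eq, hg]
    rcases h (e.symm g) (fun h0 => by rw [h0, orderOf_one] at ho; omega) with ⟨k, hk⟩ | hk
    · exact Or.inl ⟨k, ho ▸ hk⟩
    · exact Or.inr (ho ▸ hk)
  have hodd2 : ∀ m : ℕ, 1 < m → Odd m → ¬ ∃ k, m = 2 ^ k := by
    rintro m h1 hm ⟨k, rfl⟩
    rcases k with - | k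
    · simp at h1
    · exact Nat.not_odd_iff_even.mpr (Nat.even_pow.mpr ⟨even_two, Nat.succ_ne_zero k⟩) hm
  have hp5 : p ≠ 5 := by
    rintro rfl
    rcases hmem 5 (Or.inl dvd_rfl) (by norm_num) with hk | ⟨-, hne⟩
    · exact hodd2 5 (by norm_num) (by decide) hk
    · exact hne rfl
  rcases Nat.even_or_odd q with ⟨m, hm⟩ | ⟨m, hm⟩
  · exfalso
    have hg : Nat.gcd 2 (q - 1) = 1 :=
      (Nat.Prime.coprime_iff_not_dvd Nat.prime_two).mpr (by omega)
    have ha := hmem (q - 1) (Or.inr (Or.inl (by rw [hg, Nat.div_one]))) (by omega)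
    have hb := hmem (q + 1) (Or.inr (Or.inr (by rw [hg, Nat.div_one]))) (by omega)
    have ha' := ha.resolve_left (hodd2 _ (by omega) ⟨m - 1, by omega⟩)
    have hb' := hb.resolve_left (hodd2 _ (by omega) ⟨m, by omega⟩)
    have hq2 : p = 2 := ((Nat.prime_dvd_prime_iff_eq Nat.prime_two hp).mp
      (Nat.prime_two.dvd_of_dvd_pow (n := (n : ℕ)) (by rw [← hn, ← hq]; omega))).symm
    have h3 := three_dvd_pair (n : ℕ)
    rw [← hq2, ← hn, ← hq] at h3
    rcases h3 with h3 | h3
    · have := (Nat.prime_dvd_prime_iff_eq Nat.prime_three ha'.1).mp h3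
      omega
    · have := (Nat.prime_dvd_prime_iff_eq Nat.prime_three hb'.1).mp h3
      omega
  · have hg : Nat.gcd 2 (q - 1) = 2 := Nat.gcd_eq_left (by omega)
    have ha := hmem ((q - 1) / 2) (Or.inr (Or.inl (by rw [hg]))) (by omega)
    have hb := hmem ((q + 1) / 2) (Or.inr (Or.inr (by rw [hg]))) (by omega)
    have hpow : ∀ {m k : ℕ}, m = 2 ^ k → 1 < m → ∃ e, m = 2 * 2 ^ e := fun {m k} hk h1 => by
      rcases k with - | k
      · simp [hk] at h1
      · exact ⟨k, by rw [hk, pow_succ']⟩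
    rcases Nat.even_or_odd m with ⟨i, hi⟩ | ⟨i, hi⟩
    · have hb' := hb.resolve_left (hodd2 _ (by omega) ⟨i, by omega⟩)
      have ha' : ∃ k, (q - 1) / 2 = 2 ^ k := ha.resolve_right fun hh => by
        have := (Nat.prime_dvd_prime_iff_eq Nat.prime_two hh.1).mp (by omega)
        have hq5 : q = 5 := by omega
        have hd : p ∣ 5 := by rw [← hq5, hq, hn]; exact dvd_pow_self p n.ne_zero
        exact hp5 ((Nat.prime_dvd_prime_iff_eq hp (by norm_num)).mp hd)
      obtain ⟨k, hk⟩ := ha'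
      exact spec_arith (e := k) hp hp5 ⟨n, hn⟩ hb'.1 hb'.2 h4 (Or.inl ⟨by rw [pow_succ]; omega, by omega⟩)
    · have ha' := ha.resolve_left (hodd2 _ (by omega) ⟨i, by omega⟩)
      have hb' : ∃ k, (q + 1) / 2 = 2 ^ k := hb.resolve_right fun hh => by
        have := (Nat.prime_dvd_prime_iff_eq Nat.prime_two hh.1).mp (by omega)
        omega
      obtain ⟨k, hk⟩ := hb'
      exact spec_arith (e := k) hp hp5 ⟨n, hn⟩ ha'.1 ha'.2 h4 (Or.inr ⟨by rw [pow_succ]; omega, by omega⟩)

end CfsgLib.SevenSpectrum
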