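import Mathlib
import Cfsg.Agent.Lib.SevenSpectrum.Algebra

/-!
# The fixed points of the involution determine the 2-group
-/

set_option autoImplicit false

namespace CfsgLib.SevenSpectrum

open Subgroup

universe u

variable {G : Type u} [Group G] [Finite G]

namespace Inv3

variable {D : Subgroup G} {x a : G} (S : Inv3 D x a)
include S

omit [Finite G] in
theorem fixA_conjX {c : G} (hc : c ∈ fixA D a) : x * c * x⁻¹ ∈ D := S.conjX (mem_fixA.mp hc).1

theorem pair_injective {V : Subgroup G} (hV : V ≤ fixA D a) :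
    Function.Injective (fun p : V × V => x * (p.1 : G) * x⁻¹ * (x⁻¹ * (p.2 : G) * x)) := by
  intro p q h
  have h' : x * (p.1 : G) * x⁻¹ * (x⁻¹ * (p.2 : G) * x) = x * (q.1 : G) * x⁻¹ * (x⁻¹ * (q.2 : G) * x) := h
  set c := (q.1 : G)⁻¹ * p.1 with hc
  set d := (q.2 : G) * (p.2 : G)⁻¹ with hd
  have e : x * c * x⁻¹ = x⁻¹ * d * x := by
    calc x * c * x⁻¹
        = (x * (q.1 : G) * x⁻¹)⁻¹ * (x * (p.1 : G) * x⁻¹ * (x⁻¹ * (p.2 : G) * x)) * (x⁻¹ * (p.2 : G) * x)⁻¹ := by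
          rw [hc]; group
      _ = x⁻¹ * d * x := by rw [h', hd]; group
  have hcF : c ∈ fixA D a := mul_mem (inv_mem (hV q.1.2)) (hV p.1.2)
  have hdF : d ∈ fixA D a := mul_mem (hV q.2.2) (inv_mem (hV p.2.2))
  have hd1 : x * d * x⁻¹ = c := by
    have e2 : x⁻¹ * (x⁻¹ * d * x) * x = c := by rw [← e]; group
    rw [← e2, show x⁻¹ * (x⁻¹ * d * x) * x = (x * x)⁻¹ * d * (x * x) by group, S.xsq, inv_inv]
  have hd' : d = 1 := S.disjoint hdF (hd1 ▸ hcF)
  have hc' : c = 1 := by rw [← hd1, hd']; group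
  exact Prod.ext (Subtype.ext (inv_mul_eq_one.mp hc').symm) (Subtype.ext (mul_inv_eq_one.mp hd').symm)

/-- The square of the number of fixed points is at most the order. -/
theorem sq_card_fix_le : Nat.card (fixA D a) * Nat.card (fixA D a) ≤ Nat.card D := by
  rw [← Nat.card_prod]
  refine Nat.card_le_card_of_injective
    (fun p => (⟨_, mul_mem (S.fixA_conjX p.1.2) (S.conjX' (mem_fixA.mp p.2.2).1)⟩ : D)) ?_
  intro p q h
  exact S.pair_injective le_rfl (congrArg Subtype.val h)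

/-- An elementary subgroup has at most the square of its fixed points. -/
theorem card_le_sq_fix (hsq : ∀ d ∈ D, d * d = 1) :
    Nat.card D ≤ Nat.card (fixA D a) * Nat.card (fixA D a) := by
  have hcomm : ∀ d ∈ D, ∀ e ∈ D, d * e = e * d := fun d hd e he => by
    calc d * e = (d * e)⁻¹ := (inv_eq_of_mul_eq_one_right (hsq _ (mul_mem hd he))).symm
      _ = e⁻¹ * d⁻¹ := mul_inv_rev _ _
      _ = e * d := by rw [inv_eq_of_mul_eq_one_right (hsq _ hd), inv_eq_of_mul_eq_one_right (hsq _ he)]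
  let f : D →* G := MonoidHom.mk' (fun d => (d : G) * (a * d * a)) (fun d e => by
    show (d : G) * e * (a * (d * e) * a) = (d : G) * (a * d * a) * ((e : G) * (a * e * a))
    have hswap : (e : G) * (a * d * a) = a * d * a * e := hcomm _ e.2 _ (S.conjA d.2)
    calc (d : G) * e * (a * (d * e) * a)
        = (d : G) * ((e : G) * (a * d * a)) * (a⁻¹ * e * a) := by group
      _ = (d : G) * (a * d * a * e) * (a * e * a) := by rw [hswap, S.ainv]
      _ = (d : G) * (a * d * a) * ((e : G) * (a * e * a)) := by group)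
  have hker : f.ker ≤ (fixA D a).subgroupOf D := by
    intro d hd
    have h1 : (d : G) * (a * d * a) = 1 := MonoidHom.mem_ker.mp hd
    refine mem_subgroupOf.mpr (mem_fixA.mpr ⟨d.2, ?_⟩)
    have h2 : a * d * a = d := by
      rw [eq_inv_of_mul_eq_one_right h1, inv_eq_of_mul_eq_one_right (hsq _ d.2)]
    calc a * (d : G) = a * d * a * a := by rw [mul_assoc _ a a, S.aa, mul_one]
      _ = d * a := by rw [h2]
  have hran : f.range ≤ fixA D a := by
    rintro _ ⟨d, rfl⟩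
    show (d : G) * (a * d * a) ∈ _
    refine mem_fixA.mpr ⟨mul_mem d.2 (S.conjA d.2), ?_⟩
    calc a * ((d : G) * (a * d * a)) = (a * d * a) * ((a * a) * d * a) := by
          rw [show a * d * a * (a * a * d * a) = a * d * ((a * a) * a * d * a) by group, S.aa, one_mul]; group
      _ = (a * d * a * d) * a := by rw [S.aa, one_mul]; group
      _ = (d : G) * (a * d * a) * a := by rw [hcomm _ (S.conjA d.2) _ d.2]
  calc Nat.card D = Nat.card f.range * Nat.card f.ker := by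
        rw [← Subgroup.index_ker, index_mul_card]
    _ ≤ Nat.card (fixA D a) * Nat.card (fixA D a) := by
        refine Nat.mul_le_mul (card_le_of_le hran) ?_
        exact (card_le_of_le hker).trans (Nat.card_congr (subgroupOfEquivOfLe inf_le_left).toEquiv).le

/-- When the fixed points commute with each other and with their conjugates they span `D`. -/
theorem span (hcc : ∀ b ∈ fixA D a, ∀ c ∈ fixA D a, b * c = c * b)
    (hcx : ∀ b ∈ fixA D a, ∀ c ∈ fixA D a, b * (x * c * x⁻¹) = x * c * x⁻¹ * b) :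
    ∀ d ∈ D, ∃ b ∈ fixA D a, ∃ c ∈ fixA D a, d = x * b * x⁻¹ * (x⁻¹ * c * x) := by
  haveI : Fact (Nat.Prime 2) := ⟨Nat.prime_two⟩
  have hmix : ∀ b ∈ fixA D a, ∀ c ∈ fixA D a,
      x * b * x⁻¹ * (x⁻¹ * c * x) = x⁻¹ * c * x * (x * b * x⁻¹) := by
    intro b hb c hc
    have hx1 : x⁻¹ * c * x = x * (x * c * x⁻¹) * x⁻¹ := by
      calc x⁻¹ * c * x = (x * x) * c * (x * x)⁻¹ := by rw [S.xsq, inv_inv]
        _ = x * (x * c * x⁻¹) * x⁻¹ := by group
    calc x * b * x⁻¹ * (x⁻¹ * c * x) = x * (b * (x * c * x⁻¹)) * x⁻¹ := by rw [hx1]; group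
      _ = x * (x * c * x⁻¹ * b) * x⁻¹ := by rw [hcx b hb c hc]
      _ = x⁻¹ * c * x * (x * b * x⁻¹) := by rw [hx1]; group
  let H : Subgroup G :=
    { carrier := {d | ∃ b ∈ fixA D a, ∃ c ∈ fixA D a, d = x * b * x⁻¹ * (x⁻¹ * c * x)}
      one_mem' := ⟨1, one_mem _, 1, one_mem _, by group⟩
      mul_mem' := by
        rintro _ _ ⟨b, hb, c, hc, rfl⟩ ⟨b', hb', c', hc', rfl⟩
        refine ⟨b * b', mul_mem hb hb', c * c', mul_mem hc hc', ?_⟩
        calc x * b * x⁻¹ * (x⁻¹ * c * x) * (x * b' * x⁻¹ * (x⁻¹ * c' * x))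
            = x * b * x⁻¹ * (x⁻¹ * c * x * (x * b' * x⁻¹)) * (x⁻¹ * c' * x) := by group
          _ = x * b * x⁻¹ * (x * b' * x⁻¹ * (x⁻¹ * c * x)) * (x⁻¹ * c' * x) := by rw [hmix b' hb' c hc]
          _ = x * (b * b') * x⁻¹ * (x⁻¹ * (c * c') * x) := by group
      inv_mem' := by
        rintro _ ⟨b, hb, c, hc, rfl⟩
        refine ⟨b⁻¹, inv_mem hb, c⁻¹, inv_mem hc, ?_⟩
        rw [hmix b hb c hc, mul_inv_rev]
        group }
  have hHD : H ≤ D := by
    rintro _ ⟨b, hb, c, hc, rfl⟩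
    exact mul_mem (S.fixA_conjX hb) (S.conjX' (mem_fixA.mp hc).1)
  have hHA : ∀ d ∈ H, a * d * a ∈ H := by
    rintro _ ⟨b, hb, c, hc, rfl⟩
    refine ⟨c, hc, b, hb, ?_⟩
    calc a * (x * b * x⁻¹ * (x⁻¹ * c * x)) * a
        = a * (x * b * x⁻¹) * (a * a) * (x⁻¹ * c * x) * a := by rw [S.aa]; group
      _ = (a * (x * b * x⁻¹) * a) * (a * (x⁻¹ * c * x) * a) := by group
      _ = x⁻¹ * b * x * (x * c * x⁻¹) := by
          rw [S.conjA_x (mem_fixA.mp hb).2, S.conjA_x' (mem_fixA.mp hc).2]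
      _ = x * c * x⁻¹ * (x⁻¹ * b * x) := (hmix c hc b hb).symm
  have hFH : fixA D a ≤ H := by
    intro c hc
    refine ⟨c⁻¹, inv_mem hc, c⁻¹, inv_mem hc, ?_⟩
    calc c = ((x⁻¹ * c * x) * (x * c * x⁻¹))⁻¹ := by rw [(S.comm_self hc).2.1, inv_inv]
      _ = x * c⁻¹ * x⁻¹ * (x⁻¹ * c⁻¹ * x) := by group
  have hstep : ∀ g ∈ D, g⁻¹ * (a * g * a) ∈ H → g ∈ H := by
    intro g hg hh
    obtain ⟨b, hb, c, hc, he⟩ := hh
    have hga : a * g * a = g * (x * b * x⁻¹ * (x⁻¹ * c * x)) := by rw [← he]; group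
    have hprod : g⁻¹ * (a * g * a) * (a * (g⁻¹ * (a * g * a)) * a) = 1 := by
      calc g⁻¹ * (a * g * a) * (a * (g⁻¹ * (a * g * a)) * a)
          = g⁻¹ * a * g * (a * a) * g⁻¹ * a * g * (a * a) := by group
        _ = g⁻¹ * a * (g * g⁻¹) * a * g := by rw [S.aa]; group
        _ = g⁻¹ * (a * a) * g := by group
        _ = 1 := by rw [S.aa]; group
    have hA2 : a * (x * b * x⁻¹ * (x⁻¹ * c * x)) * a = x⁻¹ * b * x * (x * c * x⁻¹) := by
      calc a * (x * b * x⁻¹ * (x⁻¹ * c * x)) * a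
          = a * (x * b * x⁻¹) * (a * a) * (x⁻¹ * c * x) * a := by rw [S.aa]; group
        _ = (a * (x * b * x⁻¹) * a) * (a * (x⁻¹ * c * x) * a) := by group
        _ = x⁻¹ * b * x * (x * c * x⁻¹) := by
            rw [S.conjA_x (mem_fixA.mp hb).2, S.conjA_x' (mem_fixA.mp hc).2]
    rw [he, hA2, ← hmix c hc b hb] at hprod
    have hbc : c * b = 1 ∧ b * c = 1 := by
      have h1 : x * b * x⁻¹ * (x⁻¹ * c * x) * (x * c * x⁻¹ * (x⁻¹ * b * x)) =
          x * (b * c) * x⁻¹ * (x⁻¹ * (b * c) * x) := by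
        calc x * b * x⁻¹ * (x⁻¹ * c * x) * (x * c * x⁻¹ * (x⁻¹ * b * x))
            = x * b * x⁻¹ * (x⁻¹ * c * x * (x * c * x⁻¹)) * (x⁻¹ * b * x) := by group
          _ = x * b * x⁻¹ * (x * c * x⁻¹ * (x⁻¹ * c * x)) * (x⁻¹ * b * x) := by rw [hmix c hc c hc]
          _ = x * (b * c) * x⁻¹ * (x⁻¹ * (c * b) * x) := by group
          _ = x * (b * c) * x⁻¹ * (x⁻¹ * (b * c) * x) := by rw [hcc c hc b hb]
      rw [h1, (S.comm_self (mul_mem hb hc)).1] at hprod
      exact ⟨by rw [hcc c hc b hb]; exact inv_eq_one.mp hprod, inv_eq_one.mp hprod⟩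
    have hc' : c = b⁻¹ := eq_inv_of_mul_eq_one_left hbc.1
    have hfix : g * (x * b * x⁻¹) ∈ fixA D a := by
      refine mem_fixA.mpr ⟨mul_mem hg (S.fixA_conjX hb), ?_⟩
      have e : a * (g * (x * b * x⁻¹)) * a = g * (x * b * x⁻¹) := by
        calc a * (g * (x * b * x⁻¹)) * a = a * g * (a * a) * (x * b * x⁻¹) * a := by rw [S.aa]; group
          _ = (a * g * a) * (a * (x * b * x⁻¹) * a) := by group
          _ = g * (x * b * x⁻¹ * (x⁻¹ * b⁻¹ * x)) * (x⁻¹ * b * x) := by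
              rw [hga, S.conjA_x (mem_fixA.mp hb).2, hc']
          _ = g * (x * b * x⁻¹) := by group
      calc a * (g * (x * b * x⁻¹)) = a * (g * (x * b * x⁻¹)) * a * a := by rw [mul_assoc _ a a, S.aa, mul_one]
        _ = g * (x * b * x⁻¹) * a := by rw [e]
    have : g = g * (x * b * x⁻¹) * (x * b⁻¹ * x⁻¹ * (x⁻¹ * 1 * x)) := by group
    rw [this]
    exact mul_mem (hFH hfix) ⟨b⁻¹, inv_mem hb, 1, one_mem _, rfl⟩
  have hinv : ∀ (k : ℕ) (g : G), g ∈ D → a * g * a = g⁻¹ → g ^ 2 ^ k = 1 → g ∈ H := by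
    intro k
    induction k with
    | zero => intro g _ _ h; rw [pow_zero, pow_one] at h; rw [h]; exact one_mem _
    | succ k ih =>
      intro g hg hi h
      refine hstep g hg ?_
      rw [hi]
      have h2 : g * g ∈ H := by
        refine ih _ (mul_mem hg hg) ?_ ?_
        · calc a * (g * g) * a = a * g * (a * a) * g * a := by rw [S.aa]; group
            _ = (a * g * a) * (a * g * a) := by group
            _ = (g * g)⁻¹ := by rw [hi, mul_inv_rev]
        · rw [← pow_two, ← pow_mul]; rwa [pow_succ'] at h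
      have := inv_mem h2
      rwa [mul_inv_rev] at this
  intro d hd
  have hall : D ⊓ normalizer (H : Set G) ≤ H := by
    rintro g ⟨hg, -⟩
    refine hstep g hg ?_
    obtain ⟨k, hk⟩ := S.two ⟨_, mul_mem (inv_mem hg) (S.conjA hg)⟩
    refine hinv k _ (mul_mem (inv_mem hg) (S.conjA hg)) ?_ (congrArg Subtype.val hk)
    calc a * (g⁻¹ * (a * g * a)) * a = a * g⁻¹ * a * g * (a * a) := by group
      _ = (a⁻¹ * g⁻¹ * a⁻¹) * g := by rw [S.aa, S.ainv]; group
      _ = (g⁻¹ * (a * g * a))⁻¹ := by group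
  exact (LocalEven.eq_of_inf_normalizer_le S.two hHD hall).ge hd

/-- No quaternion pair of fixed points when all involutions lie in a central four-group. -/
theorem no_quaternion {V : Subgroup G} (hVD : V ≤ D) (hVsq : ∀ v ∈ V, v * v = 1)
    (hVc : ∀ v ∈ V, ∀ d ∈ D, d * v = v * d) (hVx : x ∈ normalizer (V : Set G))
    (hVa : a ∈ normalizer (V : Set G)) (hinvol : ∀ d ∈ D, d * d = 1 → d ∈ V)
    {z : G} (hzV : z ∈ V) (hz1 : z ≠ 1) (hfix : ∀ v ∈ V, a * v = v * a → v = 1 ∨ v = z)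
    (hf : ∀ b ∈ fixA D a, ∀ c ∈ fixA D a, b * b ∈ V → c * c ∈ V → b * c * b⁻¹ * c⁻¹ ∈ V →
      b * (x * c * x⁻¹) * b⁻¹ * (x * c * x⁻¹)⁻¹ ∈ V)
    {i j : G} (hi : i ∈ fixA D a) (hj : j ∈ fixA D a) (hi2 : i * i = z) (hj2 : j * j = z)
    (hij : j * i * j⁻¹ = i⁻¹) : False := by
  obtain ⟨hiD, hai⟩ := mem_fixA.mp hi
  obtain ⟨hjD, haj⟩ := mem_fixA.mp hj
  have haz : a * z = z * a := by rw [← hi2]; exact ((show Commute a i from hai).mul_right hai).eq
  have hzinv : z⁻¹ = z := inv_eq_of_mul_eq_one_right (hVsq z hzV)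
  have hijz : i * j * i⁻¹ * j⁻¹ = z := by
    calc i * j * i⁻¹ * j⁻¹ = i * (j * i * j⁻¹)⁻¹ := by group
      _ = z := by rw [hij, inv_inv, hi2]
  -- the commutator of `i` and `x j x⁻¹`
  have key : ∀ (y : G), Inv3 D y a → (y = x ∨ y = x⁻¹) → ∀ b ∈ fixA D a, ∀ c ∈ fixA D a,
      b * b = z → c * c = z → b * c * b⁻¹ * c⁻¹ = z →
      b * (y * c * y⁻¹) * b⁻¹ * (y * c * y⁻¹)⁻¹ ∈ V →
      a * (b * (y * c * y⁻¹) * b⁻¹ * (y * c * y⁻¹)⁻¹) * a =
        z * (b * (y * c * y⁻¹) * b⁻¹ * (y * c * y⁻¹)⁻¹) := by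
    intro y T _ b hb c hc hb2 hc2 hbc hfV
    obtain ⟨hbD, hab⟩ := mem_fixA.mp hb
    obtain ⟨hcD, hac⟩ := mem_fixA.mp hc
    set u := y * c * y⁻¹ with hu
    set f := b * u * b⁻¹ * u⁻¹ with hfdef
    have huD : u ∈ D := T.conjX hcD
    have hv : y⁻¹ * c * y = u⁻¹ * c⁻¹ := by
      rw [eq_inv_of_mul_eq_one_right (T.trip hcD), mul_inv_rev]
    have hfinv : f⁻¹ = f := inv_eq_of_mul_eq_one_right (hVsq f hfV)
    have hcbc : c⁻¹ * b⁻¹ * c = z * b⁻¹ := by
      have e1 : b * c * b⁻¹ = z * c := by rw [← hbc]; group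
      have e2 : c = z * (b⁻¹ * c * b) := by
        calc c = b⁻¹ * (b * c * b⁻¹) * b := by group
          _ = b⁻¹ * (z * c) * b := by rw [e1]
          _ = (b⁻¹ * z) * c * b := by group
          _ = (z * b⁻¹) * c * b := by rw [hVc z hzV _ (inv_mem hbD)]
          _ = z * (b⁻¹ * c * b) := by group
      calc c⁻¹ * b⁻¹ * c = c⁻¹ * (b⁻¹ * c * b) * b⁻¹ := by group
        _ = c⁻¹ * (z * c) * b⁻¹ := by
            rw [show b⁻¹ * c * b = z * c from
              calc b⁻¹ * c * b = z⁻¹ * (z * (b⁻¹ * c * b)) := by group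
                _ = z * c := by rw [← e2, hzinv]]
        _ = c⁻¹ * (c * z) * b⁻¹ := by rw [hVc z hzV c hcD]
        _ = z * b⁻¹ := by group
    have hab' : a * b⁻¹ = b⁻¹ * a := (show Commute a b from hab).inv_right.eq
    calc a * f * a = a * b * ((a * a) * u * (a * a)) * b⁻¹ * ((a * a) * u⁻¹ * a) := by
          rw [hfdef, T.aa]; group
      _ = (a * b * a) * (a * u * a) * (a * b⁻¹ * a) * (a⁻¹ * u * a⁻¹)⁻¹ := by group
      _ = b * (u⁻¹ * c⁻¹) * b⁻¹ * (u⁻¹ * c⁻¹)⁻¹ := by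
          rw [T.ainv, hab, hab', mul_assoc b a a, mul_assoc b⁻¹ a a, T.aa, mul_one, mul_one, hu,
            T.conjA_x hac, hv]
      _ = b * u⁻¹ * (c⁻¹ * b⁻¹ * c) * u := by group
      _ = b * (u⁻¹ * z) * b⁻¹ * u := by rw [hcbc]; group
      _ = b * (z * u⁻¹) * b⁻¹ * u := by rw [hVc z hzV _ (inv_mem huD)]
      _ = (b * z) * u⁻¹ * b⁻¹ * u := by group
      _ = (z * b) * u⁻¹ * b⁻¹ * u := by rw [hVc z hzV b hbD]
      _ = z * (u⁻¹ * f⁻¹ * u) := by rw [hfdef]; group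
      _ = z * f := by rw [hfinv, mul_assoc, ← hVc f hfV u huD, inv_mul_cancel_left]
  set f := i * (x * j * x⁻¹) * i⁻¹ * (x * j * x⁻¹)⁻¹ with hfdef
  have hfV : f ∈ V := hf i hi j hj (hi2 ▸ hzV) (hj2 ▸ hzV) (hijz ▸ hzV)
  have hfV' : x⁻¹ * f * x ∈ V := (mem_normalizer_iff''.mp hVx f).mp hfV
  have hg : j * (x⁻¹ * i * x) * j⁻¹ * (x⁻¹ * i * x)⁻¹ = (x⁻¹ * f * x)⁻¹ := by rw [hfdef]; group
  have hjiz : j * i * j⁻¹ * i⁻¹ = z := by
    calc j * i * j⁻¹ * i⁻¹ = (i * j * i⁻¹ * j⁻¹)⁻¹ := by group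
      _ = z := by rw [hijz, hzinv]
  have hfinv' : (x⁻¹ * f * x)⁻¹ = x⁻¹ * f * x := inv_eq_of_mul_eq_one_right (hVsq _ hfV')
  have h1 : a * f * a = z * f := key x S (Or.inl rfl) i hi j hj hi2 hj2 hijz hfV
  have h2 := key x⁻¹ S.symm (Or.inr rfl) j hj i hi hj2 hi2 hjiz
    (by rw [inv_inv, hg, hfinv']; exact hfV')
  rw [inv_inv, hg, hfinv'] at h2
  -- `f = x⁻¹ z x`
  set p := x⁻¹ * z * x with hp
  have hpV : p ∈ V := (mem_normalizer_iff''.mp hVx z).mp hzV
  have hz' : x * z * x⁻¹ = z * p := by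
    have e := eq_inv_of_mul_eq_one_right (S.trip (hVD hzV))
    rw [← hp] at e
    have hp' : p = z * (x * z * x⁻¹) := by
      rw [← inv_eq_of_mul_eq_one_right (hVsq p hpV), e, inv_inv]
    rw [hp', ← mul_assoc, hVsq z hzV, one_mul]
  have hap : a * p * a = z * p := by rw [hp, S.conjA_x' haz, hz']
  have hfp : ∀ g ∈ V, a * g * a = z * g → g = p ∨ g = z * p := by
    intro g hgV hga
    have hgp : g * p ∈ V := mul_mem hgV hpV
    have e : a * (g * p) * a = g * p := by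
      calc a * (g * p) * a = a * g * (a * a) * p * a := by rw [S.aa]; group
        _ = (a * g * a) * (a * p * a) := by group
        _ = z * g * (z * p) := by rw [hga, hap]
        _ = z * (g * z) * p := by group
        _ = z * (z * g) * p := by rw [hVc z hzV g (hVD hgV)]
        _ = g * p := by rw [← mul_assoc z z g, hVsq z hzV, one_mul]
    have hc : a * (g * p) = g * p * a := by
      calc a * (g * p) = a * (g * p) * a * a := by rw [mul_assoc _ a a, S.aa, mul_one]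
        _ = g * p * a := by rw [e]
    have hg' : g = (g * p) * p := by rw [mul_assoc, hVsq p hpV, mul_one]
    rcases hfix _ hgp hc with h | h
    · exact Or.inl (by rw [hg', h, one_mul])
    · exact Or.inr (by rw [hg', h])
  have hf_eq : f = p := by
    rcases hfp f hfV h1 with h | h
    · exact h
    rcases hfp _ hfV' h2 with h' | h'
    · exfalso
      have : f = z := by
        calc f = x * (x⁻¹ * f * x) * x⁻¹ := by group
          _ = z := by rw [h', hp]; group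
      rw [this, hVsq z hzV, haz, mul_assoc, S.aa, mul_one] at h1
      exact hz1 h1
    · exfalso
      have hxx : x⁻¹ * f * x = z := by
        rw [h, ← hz']; group
      rw [hxx, ← hz'] at h'
      exact hz1 (S.free z (hVD hzV) (by
        calc x * z = x * z * x⁻¹ * x := by group
          _ = z * x := by rw [← h']))
  -- an involution outside `V`
  set u := x * j * x⁻¹ with hu
  have huD : u ∈ D := S.conjX hjD
  have hgsq : i * u * (i * u) = 1 := by
    calc i * u * (i * u) = f * u * (i * i) * u := by rw [hfdef]; group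
      _ = f * (u * z) * u := by rw [hi2]; group
      _ = f * z * (u * u) := by rw [hVc z hzV u huD]; group
      _ = p * z * (z * p) := by rw [hf_eq, ← hz', hu, ← hj2]; group
      _ = p * (z * z) * p := by group
      _ = 1 := by rw [hVsq z hzV, mul_one, hVsq p hpV]
  have hgV := hinvol _ (mul_mem hiD huD) hgsq
  have hcomm : i * u * i⁻¹ * u⁻¹ = 1 := by
    have e := hVc _ hgV i hiD
    have e' : i * u = u * i := mul_left_cancel (e.trans (mul_assoc i u i))
    rw [e']; group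
  rw [← hfdef, hf_eq] at hcomm
  exact hz1 (by
    calc z = x * p * x⁻¹ := by rw [hp]; group
      _ = 1 := by rw [hcomm]; group)

end Inv3

end CfsgLib.SevenSpectrum
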