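import Mathlib
import Cfsg.Agent.Lib.SevenSpectrum.Locals
import Cfsg.Agent.Lib.SevenSpectrum.Homocyclic
import Cfsg.Agent.Lib.LocalEven.JBlockOffender

/-!
# A 2-local whose Thompson subgroup is not in the 2-core
-/

set_option autoImplicit false

namespace CfsgLib.SevenSpectrum

open Subgroup Cfsg SFreeLocals

universe u

variable {G : Type u} [Group G] [Finite G]

omit [Finite G] in
theorem pow_split {D : Subgroup G} {e w : G} (he : e ∈ D) (hw : w ∈ normalizer (D : Set G)) (n : ℕ) :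
    (e * w) ^ n * (w ^ n)⁻¹ ∈ D := by
  induction n with
  | zero => simp
  | succ n ih =>
    have h1 : w ^ n * e * (w ^ n)⁻¹ ∈ D := (mem_normalizer_iff.mp (pow_mem hw n) e).mp he
    have : (e * w) ^ (n + 1) * (w ^ (n + 1))⁻¹ = (e * w) ^ n * (w ^ n)⁻¹ * (w ^ n * e * (w ^ n)⁻¹) := by
      rw [pow_succ, pow_succ]; group
    rw [this]; exact mul_mem ih h1

theorem sup_sq {B V : Subgroup G} (hB : ∀ b ∈ B, b * b = 1) (hV : ∀ v ∈ V, v * v = 1)
    (hc : ∀ b ∈ B, ∀ v ∈ V, b * v = v * b) : ∀ w ∈ B ⊔ V, w * w = 1 := by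
  intro w hw
  have hn : V ≤ normalizer (B : Set G) := fun v hv => centralizer_le_normalizer _
    (mem_centralizer_iff.mpr fun b hb => hc b hb v hv)
  obtain ⟨b, hb, v, hv, rfl⟩ := Solvable.exists_mul_of_mem_sup hn hw
  calc b * v * (b * v) = b * (v * b) * v := by group
    _ = b * (b * v) * v := by rw [hc b hb v hv]
    _ = (b * b) * (v * v) := by group
    _ = 1 := by rw [hB b hb, hV v hv, one_mul]

/-- The data produced by an offender. -/
structure OffenderData (X D : Subgroup G) (T : Subgroup G) (z x a : G) : Prop where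
  inv3 : Inv3 D x a
  xmem : x ∈ X
  amem : a ∈ T
  a_notmem : a ∉ D
  z_ne : z ≠ 1
  z_mem : z ∈ fixA D a
  z_sq : z * z = 1
  invol : ∀ d ∈ D, d * d = 1 → d ∈ zTwo D
  fix_invol : ∀ d ∈ fixA D a, d * d = 1 → d = 1 ∨ d = z
  T_mem : ∀ t ∈ T, t ∈ D ∨ a * t ∈ D

theorem exists_offenderData (h : Spec G) {X T A : Subgroup G} (hsol : Group.IsSolvable X)
    (hne : pCoreOf 2 X ≠ ⊥) (hTX : T ≤ X) (hT : IsPGroup 2 T) (hDT : pCoreOf 2 X ≤ T)
    (hA : IsMaxEl T A) (hAD : ¬ A ≤ pCoreOf 2 X) :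
    ∃ z x a, OffenderData X (pCoreOf 2 X) T z x a := by
  classical
  set D := pCoreOf 2 X with hDdef
  have hD : IsPGroup 2 D := LocalEven.isPGroup_pCoreOf 2 X
  have hXD : X ≤ normalizer (D : Set G) := LocalEven.le_normalizer_pCoreOf 2 X
  have hAX : A ≤ X := hA.1.trans hTX
  rcases exists_localData h hsol hne with he | ⟨q, y, L⟩
  · exact absurd (hAX.trans he.le) hAD
  haveI := Fact.mk L.prime
  have hyD : y ∈ normalizer (D : Set G) := hXD L.mem
  have hy1 : y ≠ 1 := fun e => L.prime.ne_one (by rw [← L.order, e, orderOf_one])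
  have hodd : ∀ w ∈ zpowers y, w * w = 1 → w = 1 := by
    intro w hw hw2
    by_contra hne'
    have h1 : orderOf w ∣ q := by
      rw [← L.order, ← Nat.card_zpowers, ← Nat.card_zpowers]; exact card_dvd_of_le (zpowers_le.mpr hw)
    have h2 : orderOf w ∣ 2 := orderOf_dvd_of_pow_eq_one (by rw [pow_two]; exact hw2)
    exact hne' (orderOf_eq_one_iff.mp (Nat.eq_one_of_dvd_coprimes
      ((Nat.coprime_primes L.prime Nat.prime_two).mpr L.ne_two) h1 h2))
  -- an involution modulo `D`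
  have hrep : ∀ b ∈ A, b ∉ D → ∃ d ∈ D, ∃ k ∈ X, k ∈ normalizer (zpowers y : Set G) ∧
      orderOf k = 2 ∧ k * y * k = y⁻¹ ∧ k * k = 1 ∧ b = d * k := by
    intro b hb hbD
    obtain ⟨d, hd, k, hk, hkn, hbe⟩ := L.split b (hAX hb)
    have hbb : d * k * (d * k) = 1 := by rw [← hbe]; exact hA.2.1 b hb
    have hkk : k * k = 1 := by
      refine L.inter _ ?_ (mul_mem hkn hkn)
      have e : k * k = (k * d * k⁻¹)⁻¹ * (d⁻¹ * (d * k * (d * k)) * d) * d⁻¹ := by group
      rw [e, hbb, mul_one, inv_mul_cancel, mul_one]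
      exact mul_mem (inv_mem ((mem_normalizer_iff.mp (hXD hk) d).mp hd)) (inv_mem hd)
    have hk1 : k ≠ 1 := by
      rintro rfl
      rw [mul_one] at hbe
      exact hbD (hbe ▸ hd)
    have hk2 : orderOf k = 2 := orderOf_eq_prime (by rw [pow_two]; exact hkk) hk1
    exact ⟨d, hd, k, hk, hkn, hk2, h.inverts L.prime L.ne_two L.order hk2 hkn, hkk, hbe⟩
  obtain ⟨a, haA, haD⟩ := SetLike.not_le_iff_exists.mp hAD
  obtain ⟨d₀, hd₀, k₀, hk₀, hk₀n, hk₀2, hk₀y, hk₀k, hae⟩ := hrep a haA haD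
  have hwy : ∀ k ∈ X, k ∈ normalizer (zpowers y : Set G) → k * y * k⁻¹ = y⁻¹ → k₀ * k ∈ zpowers y := by
    intro k hk hkn hky
    refine h.mem_zpowers_of_commute L.prime L.ne_two L.order ?_ hD hne hyD (hXD (mul_mem hk₀ hk))
    have e : k₀ * k * y * (k₀ * k)⁻¹ = y := by
      calc k₀ * k * y * (k₀ * k)⁻¹ = k₀ * (k * y * k⁻¹) * k₀⁻¹ := by group
        _ = (k₀ * y * k₀⁻¹)⁻¹ := by rw [hky]; group
        _ = y := by rw [inv_eq_of_mul_eq_one_right hk₀k, hk₀y, inv_inv]
    exact mul_inv_eq_iff_eq_mul.mp e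
  have hhalf : ∀ b ∈ A, b ∉ D → a * b ∈ D := by
    intro b hb hbD
    obtain ⟨d, hd, k, hk, hkn, hk2, hky, hkk, hbe⟩ := hrep b hb hbD
    have hw : k₀ * k ∈ zpowers y := hwy k hk hkn (by rw [inv_eq_of_mul_eq_one_right hkk]; exact hky)
    set e := d₀ * (k₀ * d * k₀⁻¹) with he
    have heD : e ∈ D := mul_mem hd₀ ((mem_normalizer_iff.mp (hXD hk₀) d).mp hd)
    have hab : a * b = e * (k₀ * k) := by rw [hae, hbe, he]; group
    have hsq : e * (k₀ * k) * (e * (k₀ * k)) = 1 := by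
      rw [← hab]; exact hA.2.1 _ (mul_mem haA hb)
    have h1 : k₀ * k = 1 := by
      refine hodd _ hw (L.inter _ ?_ (le_normalizer (mul_mem hw hw)))
      have e2 : k₀ * k * (k₀ * k) =
          (k₀ * k * e * (k₀ * k)⁻¹)⁻¹ * (e⁻¹ * (e * (k₀ * k) * (e * (k₀ * k))) * e) * e⁻¹ := by group
      rw [e2, hsq, mul_one, inv_mul_cancel, mul_one]
      exact mul_mem (inv_mem ((mem_normalizer_iff.mp (hXD (mul_mem hk₀ hk)) e).mp heD)) (inv_mem heD)
    rw [hab, h1, mul_one]
    exact heD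
  have haa : a * a = 1 := hA.2.1 a haA
  have hainv : a⁻¹ = a := inv_eq_of_mul_eq_one_right haa
  have haX : a ∈ X := hAX haA
  -- an element of order `q` inverted by `a`
  set x := a * (y * a * y⁻¹) with hxdef
  have hxX : x ∈ X := mul_mem haX (mul_mem (mul_mem L.mem haX) (inv_mem L.mem))
  have hxD : x ∈ normalizer (D : Set G) := hXD hxX
  have hinv : a * x * a = x⁻¹ := by
    calc a * x * a = (a * a) * (y * a * y⁻¹) * a := by rw [hxdef]; group
      _ = y * a⁻¹ * y⁻¹ * a⁻¹ := by rw [haa, hainv, one_mul]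
      _ = x⁻¹ := by rw [hxdef]; group
  set w := y⁻¹ * y⁻¹ with hwdef
  have hwz : w ∈ zpowers y := mul_mem (inv_mem (mem_zpowers y)) (inv_mem (mem_zpowers y))
  have hw1 : w ≠ 1 := by
    intro e
    exact hy1 (inv_eq_one.mp (hodd _ (inv_mem (mem_zpowers y)) e))
  have hkyi : k₀ * y * k₀⁻¹ = y⁻¹ := by rw [inv_eq_of_mul_eq_one_right hk₀k]; exact hk₀y
  obtain ⟨e, heD, hxe⟩ : ∃ e ∈ D, x = e * w := by
    refine ⟨d₀ * (k₀ * y * d₀ * (k₀ * y)⁻¹), mul_mem hd₀
      ((mem_normalizer_iff.mp (mul_mem (hXD hk₀) hyD) d₀).mp hd₀), ?_⟩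
    calc x = d₀ * k₀ * (y * (d₀ * k₀) * y⁻¹) := by rw [hxdef, hae]
      _ = d₀ * (k₀ * y * d₀ * (k₀ * y)⁻¹) * ((k₀ * y * k₀⁻¹) * (k₀ * k₀) * y⁻¹) := by group
      _ = d₀ * (k₀ * y * d₀ * (k₀ * y)⁻¹) * w := by rw [hkyi, hk₀k, hwdef]; group
  have hwq : orderOf w = q := by
    have h1 : orderOf w ∣ q := by
      rw [← L.order, ← Nat.card_zpowers, ← Nat.card_zpowers]; exact card_dvd_of_le (zpowers_le.mpr hwz)
    exact ((Nat.dvd_prime L.prime).mp h1).resolve_left fun e => hw1 (orderOf_eq_one_iff.mp e)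
  have hxq : orderOf x = q := by
    refine h.order_eq L.prime L.ne_two ?_
    have hp := pow_split heD (hyD |> fun hy' => (mul_mem (inv_mem hy') (inv_mem hy') : w ∈ _)) (orderOf x)
    rw [← hxe, pow_orderOf_eq_one, one_mul] at hp
    rw [← hwq]
    refine orderOf_dvd_of_pow_eq_one ?_
    have := L.inter _ hp (le_normalizer (inv_mem (pow_mem hwz _)))
    exact inv_eq_one.mp this
  have hax : a * x = x⁻¹ * a := by rw [← hinv, mul_assoc (a * x), haa, mul_one]
  have hfree : ∀ d ∈ D, x * d = d * x → d = 1 := fun d hd hc => h.free L.prime L.ne_two hxq hD hd hc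
  -- the central four-group
  set V := zTwo D with hVdef
  have hVD : V ≤ D := fun v hv => hv.1
  have hVne : V ≠ ⊥ := zTwo_ne_bot hD hne
  have hxV : x ∈ normalizer (V : Set G) := normalizer_le_normalizer_zTwo D hxD
  have haV : a ∈ normalizer (V : Set G) := normalizer_le_normalizer_zTwo D (hXD haX)
  have hVsq : ∀ v ∈ V, v * v = 1 := fun v hv => hv.2.1
  have hVc : ∀ v ∈ V, ∀ d ∈ D, d * v = v * d := fun v hv => hv.2.2
  set B := A ⊓ D with hB
  have hBsq : ∀ b ∈ B, b * b = 1 := fun b hb => hA.2.1 b hb.1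
  have hAB : Nat.card A ≤ 2 * Nat.card B := by
    rw [← Fintype.card_bool, ← Nat.card_eq_fintype_card, ← Nat.card_prod]
    refine Nat.card_le_card_of_injective (fun b : A =>
      if hb : (b : G) ∈ D then ((false, ⟨(b : G), b.2, hb⟩) : Bool × B)
      else (true, ⟨a * b, mul_mem haA b.2, hhalf _ b.2 hb⟩)) ?_
    intro b c hbc
    simp only at hbc
    by_cases hb : (b : G) ∈ D <;> by_cases hc : (c : G) ∈ D <;> simp [hb, hc] at hbc
    · exact Subtype.ext (congrArg (fun u : B => (u : G)) hbc)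
    · exact Subtype.ext (mul_left_cancel (congrArg (fun u : B => (u : G)) hbc))
  have hBV : B ⊔ V ≤ D := sup_le inf_le_right hVD
  have hV2 : Nat.card V ≤ 2 * Nat.card (fixA V a) := by
    have hn : B ≤ normalizer (V : Set G) := fun b hb => normalizer_le_normalizer_zTwo D (le_normalizer hb.2)
    have h1 := LocalEven.JComp.card_sup_mul_inf_of_le_normalizer hn
    have h2 : Nat.card ↥(V ⊔ B) ≤ Nat.card A := hA.2.2 _ ((sup_comm V B).le.trans (hBV.trans hDT))
      (sup_comm V B ▸ sup_sq hBsq hVsq fun b hb v hv => hVc v hv b hb.2)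
    have h3 : Nat.card ↥(V ⊓ B) ≤ Nat.card (fixA V a) := card_le_of_le fun v hv =>
      mem_fixA.mpr ⟨hv.1, comm_of_mem_sq hA.2.1 a haA v hv.2.1⟩
    have hBpos : 0 < Nat.card B := Nat.card_pos
    nlinarith [Nat.mul_le_mul (h2.trans hAB) h3]
  have hdis : ∀ v ∈ fixA V a, x * v * x⁻¹ ∈ fixA V a → v = 1 := by
    intro v hv hv'
    obtain ⟨hvV, hav⟩ := mem_fixA.mp hv
    obtain ⟨-, hav'⟩ := mem_fixA.mp hv'
    refine hfree v (hVD hvV) ?_
    have e : x * v * x⁻¹ = x⁻¹ * v * x := by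
      calc x * v * x⁻¹ = a * (x * v * x⁻¹) * a := by rw [hav', mul_assoc _ a a, haa, mul_one]
        _ = a * x * v * (x⁻¹ * a) := by group
        _ = x⁻¹ * a * v * (a * x) := by rw [← hax]
        _ = x⁻¹ * (a * v) * a * x := by group
        _ = x⁻¹ * v * (a * a) * x := by rw [hav]; group
        _ = x⁻¹ * v * x := by rw [haa, mul_one]
    have e2 : Commute (x ^ 2) v := by
      show x ^ 2 * v = v * x ^ 2
      calc x ^ 2 * v = x * (x * v * x⁻¹) * x := by rw [pow_two]; group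
        _ = x * (x⁻¹ * v * x) * x := by rw [e]
        _ = v * x ^ 2 := by rw [pow_two]; group
    obtain ⟨m, hm⟩ : ∃ m, (x ^ 2) ^ m = x := exists_pow_eq_self_of_coprime
      (by rw [hxq]; exact (Nat.coprime_primes Nat.prime_two L.prime).mpr L.ne_two.symm)
    have := (e2.pow_left m).eq
    rwa [hm] at this
  have hVlow : Nat.card (fixA V a) * Nat.card (fixA V a) ≤ Nat.card V := by
    rw [← Nat.card_prod]
    refine Nat.card_le_card_of_injective (fun p => (⟨(p.1 : G) * (x * (p.2 : G) * x⁻¹),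
      mul_mem (mem_fixA.mp p.1.2).1 ((mem_normalizer_iff.mp hxV _).mp (mem_fixA.mp p.2.2).1)⟩ : V)) ?_
    intro p r hpr
    have e : (p.1 : G) * (x * (p.2 : G) * x⁻¹) = (r.1 : G) * (x * (r.2 : G) * x⁻¹) :=
      congrArg Subtype.val hpr
    have e2 : x * ((r.2 : G) * (p.2 : G)⁻¹) * x⁻¹ = (r.1 : G)⁻¹ * (p.1 : G) := by
      calc x * ((r.2 : G) * (p.2 : G)⁻¹) * x⁻¹
          = (r.1 : G)⁻¹ * ((r.1 : G) * (x * (r.2 : G) * x⁻¹)) * (x * (p.2 : G) * x⁻¹)⁻¹ := by group
        _ = (r.1 : G)⁻¹ * (p.1 : G) := by rw [← e]; group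
    have h2 := hdis _ (mul_mem r.2.2 (inv_mem p.2.2)) (e2 ▸ mul_mem (inv_mem r.1.2) p.1.2)
    have hp2 : (r.2 : G) = p.2 := mul_inv_eq_one.mp h2
    rw [hp2] at e
    exact Prod.ext (Subtype.ext (mul_right_cancel e)) (Subtype.ext hp2.symm)
  have hmod : Nat.card V ≡ 1 [MOD q] := by
    letI : MulAction (zpowers x) V :=
      { smul := fun g v => ⟨(g : G) * v * (g : G)⁻¹, (mem_normalizer_iff.mp (zpowers_le.mpr hxV g.2) v).mp v.2⟩
        one_smul := fun v => Subtype.ext (by show (1 : G) * v * (1 : G)⁻¹ = v; simp)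
        mul_smul := fun g k v => Subtype.ext (by
          show ((g * k : zpowers x) : G) * v * ((g * k : zpowers x) : G)⁻¹ = (g : G) * ((k : G) * v * (k : G)⁻¹) * (g : G)⁻¹
          push_cast; group) }
    have hpg : IsPGroup q (zpowers x) := IsPGroup.of_card (n := 1) (by rw [Nat.card_zpowers, hxq, pow_one])
    have h1 := hpg.card_modEq_card_fixedPoints V
    have h2 : Nat.card (MulAction.fixedPoints (zpowers x) V) = 1 := by
      rw [Nat.card_eq_one_iff_unique]
      have hone : ∀ v : V, v ∈ MulAction.fixedPoints (zpowers x) V → v = 1 := fun v hv =>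
        Subtype.ext (hfree v (hVD v.2) (mul_inv_eq_iff_eq_mul.mp
          (congrArg Subtype.val (hv ⟨x, mem_zpowers x⟩))))
      exact ⟨⟨fun b c => Subtype.ext ((hone _ b.2).trans (hone _ c.2).symm)⟩,
        ⟨⟨1, fun g => Subtype.ext (by show (g : G) * 1 * (g : G)⁻¹ = 1; simp)⟩⟩⟩
    rwa [h2] at h1
  have hV1 : 1 < Nat.card V := V.one_lt_card_iff_ne_bot.mpr hVne
  have hfix2 : Nat.card (fixA V a) ≤ 2 := by
    have := hVlow.trans hV2
    exact Nat.le_of_mul_le_mul_right this Nat.card_pos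
  have hV4 : Nat.card V ≤ 4 := hV2.trans (by omega)
  have hq3 : q = 3 ∧ Nat.card V = 4 := by
    have hd := (Nat.modEq_iff_dvd' hV1.le).mp hmod.symm
    have hq := L.prime.two_le
    have := L.ne_two
    have := Nat.le_of_dvd (by omega) hd
    interval_cases Nat.card V <;> first | omega | exact ⟨by omega, rfl⟩
  obtain ⟨rfl, hVcard⟩ := hq3
  have hx3 : x * x * x = 1 := by
    have := pow_orderOf_eq_one x
    rw [hxq] at this
    rwa [pow_succ, pow_two] at this
  have S : Inv3 D x a := ⟨hD, hxD, hXD haX, hx3, haa, hinv, hfree⟩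
  have SV : Inv3 V x a := S.mono hVD hxV haV
  have hfix2' : Nat.card (fixA V a) = 2 := by
    have h1 := SV.card_le_sq_fix hVsq
    rw [hVcard] at h1
    nlinarith
  obtain ⟨z, hz⟩ : ∃ z : fixA V a, z ≠ 1 := by
    by_contra hall
    push_neg at hall
    have : Nat.card (fixA V a) ≤ 1 := Finite.card_le_one_iff_subsingleton.mpr
      ⟨fun b c => (hall b).trans (hall c).symm⟩
    omega
  have hfixz : ∀ v ∈ fixA V a, v = 1 ∨ v = z := by
    intro v hv
    by_contra hall
    push_neg at hall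
    have h3 : Nat.card ({⟨v, hv⟩, z, 1} : Finset (fixA V a)) ≤ Nat.card (fixA V a) :=
      Nat.card_le_card_of_injective _ Subtype.val_injective
    rw [Nat.card_eq_fintype_card, Fintype.card_coe, Finset.card_insert_of_notMem, Finset.card_pair hz] at h3
    · omega
    · simp only [Finset.mem_insert, Finset.mem_singleton, not_or]
      exact ⟨fun e => hall.2 (congrArg Subtype.val e), fun e => hall.1 (congrArg Subtype.val e)⟩
  -- elementary subgroups of `T` have order at most four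
  have hA4 : Nat.card A ≤ 4 := by
    have hBfix : ∀ b ∈ B, b ∈ fixA D a := fun b hb => mem_fixA.mpr ⟨hb.2, comm_of_mem_sq hA.2.1 a haA b hb.1⟩
    set E := B.map (MulAut.conj x).toMonoidHom with hE
    have hEsq : ∀ c ∈ E, c * c = 1 := by
      rintro _ ⟨b, hb, rfl⟩
      rw [← map_mul, hBsq b hb, map_one]
    have hcomm : ∀ b ∈ B, ∀ c ∈ E, b * c = c * b := by
      rintro b hb _ ⟨b', hb', rfl⟩
      exact S.cross (hBfix b hb) (hBfix b' hb') (hBsq b hb) (hBsq b' hb') (comm_of_mem_sq hBsq b hb b' hb')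
    have hED : E ≤ D := by
      rintro _ ⟨b, hb, rfl⟩
      exact S.conjX hb.2
    have h1 := LocalEven.JComp.card_sup_mul_inf_of_le_normalizer (A := E) (B := B)
      fun c hc => centralizer_le_normalizer _ (mem_centralizer_iff.mpr fun b hb => hcomm b hb c hc)
    have hbot : B ⊓ E = ⊥ := by
      rw [eq_bot_iff]
      rintro c ⟨hcB, b, hb, rfl⟩
      have := S.disjoint (hBfix b hb) (hBfix _ hcB)
      exact mem_bot.mpr (by rw [this, map_one])
    have hEc : Nat.card E = Nat.card B := card_map_of_injective (MulAut.conj x).injective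
    rw [hbot, card_bot, mul_one, hEc] at h1
    have h2 := hA.2.2 (B ⊔ E) ((sup_le inf_le_right hED).trans hDT) (sup_sq hBsq hEsq hcomm)
    rw [h1] at h2
    have h3 : Nat.card B ≤ 2 := Nat.le_of_mul_le_mul_right (h2.trans hAB) Nat.card_pos
    omega
  have hinvol : ∀ d ∈ D, d * d = 1 → d ∈ V := by
    intro d hd hd2
    have hsq : ∀ w ∈ zpowers d, w * w = 1 := by
      intro w hw
      obtain ⟨m, rfl⟩ := mem_zpowers_iff.mp hw
      rw [← (Commute.refl d).mul_zpow, hd2, one_zpow]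
    have hle : zpowers d ⊔ V ≤ D := sup_le (zpowers_le.mpr hd) hVD
    have h1 := hA.2.2 _ (hle.trans hDT)
      (sup_sq hsq hVsq fun w hw v hv => hVc v hv w (zpowers_le.mpr hd hw))
    have h2 : V = zpowers d ⊔ V := eq_of_le_of_card_ge le_sup_right (by rw [hVcard]; exact h1.trans hA4)
    exact h2.ge (le_sup_left (a := zpowers d) (mem_zpowers d))
  refine ⟨(z : G), x, a, S, hxX, hA.1 haA, haD, fun e => hz (Subtype.ext e),
    mem_fixA.mpr ⟨hVD (mem_fixA.mp z.2).1, (mem_fixA.mp z.2).2⟩, hVsq _ (mem_fixA.mp z.2).1,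
    hinvol, fun d hd hd2 => hfixz d (mem_fixA.mpr ⟨hinvol d (mem_fixA.mp hd).1 hd2, (mem_fixA.mp hd).2⟩), ?_⟩
  intro t ht
  obtain ⟨d, hd, k, hk, hkn, hte⟩ := L.split t (hTX ht)
  have hkT : k ∈ T := by
    have : k = d⁻¹ * t := by rw [hte, inv_mul_cancel_left]
    rw [this]; exact mul_mem (inv_mem (hDT hd)) ht
  have hyT : ∀ w ∈ zpowers y, w ∈ T → w = 1 := by
    intro w hw hwT
    have hd' : zpowers y ⊓ T = ⊥ := disjoint_iff.mp (IsPGroup.disjoint_of_ne 3 2 (by norm_num) _ _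
      (IsPGroup.of_card (n := 1) (by rw [Nat.card_zpowers, L.order, pow_one])) hT)
    exact mem_bot.mp (hd' ▸ mem_inf.mpr ⟨hw, hwT⟩)
  have hy3 : y ^ 3 = 1 := by rw [← L.order]; exact pow_orderOf_eq_one y
  have hky : k * y * k⁻¹ = y ∨ k * y * k⁻¹ = y⁻¹ := by
    obtain ⟨m, hm⟩ := mem_zpowers_iff.mp ((mem_normalizer_iff.mp hkn y).mp (mem_zpowers y))
    have h3 : (orderOf y : ℤ) = 3 := by rw [L.order]; rfl
    rw [← zpow_mod_orderOf, h3] at hm
    rcases (show m % 3 = 0 ∨ m % 3 = 1 ∨ m % 3 = 2 by omega) with e | e | e <;> rw [e] at hm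
    · rw [zpow_zero] at hm
      exact absurd (conj_eq_one_iff.mp hm.symm) hy1
    · exact Or.inl (by rw [← hm, zpow_one])
    · right
      rw [← hm]
      refine eq_inv_of_mul_eq_one_left ?_
      rw [zpow_two, ← pow_two, ← pow_succ]; exact hy3
  rcases hky with hky | hky
  · left
    have hk1 := hyT k (h.mem_zpowers_of_commute L.prime L.ne_two L.order (mul_inv_eq_iff_eq_mul.mp hky)
      hD hne hyD (hXD hk)) hkT
    rw [hte, hk1, mul_one]; exact hd
  · right
    have hk₀T : k₀ ∈ T := by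
      have : k₀ = d₀⁻¹ * a := by rw [hae, inv_mul_cancel_left]
      rw [this]; exact mul_mem (inv_mem (hDT hd₀)) (hA.1 haA)
    have hk1 := hyT _ (hwy k hk hkn hky) (mul_mem hk₀T hkT)
    have hke : k = k₀ := by
      rw [← inv_eq_of_mul_eq_one_right hk1, inv_eq_of_mul_eq_one_right hk₀k]
    rw [hte, hke, hae]
    have : d₀ * k₀ * (d * k₀) = d₀ * (k₀ * d * k₀⁻¹) * (k₀ * k₀) := by group
    rw [this, hk₀k, mul_one]
    exact mul_mem hd₀ ((mem_normalizer_iff.mp (hXD hk₀) d).mp hd)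

end CfsgLib.SevenSpectrum
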