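import Mathlib
import Cfsg.Agent.Lib.SevenSpectrum.Offender
import Cfsg.Agent.S0016

/-!
# The 2-core of an offender 2-local is generated by two conjugates of a cyclic group
-/

set_option autoImplicit false

namespace CfsgLib.SevenSpectrum

open Subgroup Cfsg SFreeLocals

universe u

variable {G : Type u} [Group G] [Finite G]

theorem Inv3.cross_mod {D : Subgroup G} {x a : G} (S : Inv3 D x a) {V : Subgroup G} (hVD : V ≤ D)
    (hDV : D ≤ normalizer (V : Set G)) (hxV : x ∈ normalizer (V : Set G)) (haV : a ∈ normalizer (V : Set G))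
    {b c : G} (hb : b ∈ fixA D a) (hc : c ∈ fixA D a) (hb2 : b * b ∈ V) (hc2 : c * c ∈ V)
    (hbc : b * c * b⁻¹ * c⁻¹ ∈ V) : b * (x * c * x⁻¹) * b⁻¹ * (x * c * x⁻¹)⁻¹ ∈ V := by
  set N := normalizer (V : Set G) with hN
  set W := V.subgroupOf N with hW
  haveI : W.Normal := normal_subgroupOf_of_le_normalizer le_rfl
  set π := QuotientGroup.mk' W with hπ
  have hker : ∀ g : N, π g = 1 ↔ (g : G) ∈ V := fun g => (QuotientGroup.eq_one_iff g).trans mem_subgroupOf
  have hsurj : ∀ v ∈ V, ∃ g ∈ V, g⁻¹ * (x * g * x⁻¹) = v := fun v hv =>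
    (S.mono hVD hxV haV).exists_comm hv
  obtain ⟨hbD, hab⟩ := mem_fixA.mp hb
  obtain ⟨hcD, hac⟩ := mem_fixA.mp hc
  have T : Inv3 ((D.subgroupOf N).map π) (π ⟨x, hxV⟩) (π ⟨a, haV⟩) := by
    refine ⟨(S.two.comap_subtype (K := N)).map π, ?_, ?_, ?_, ?_, ?_, ?_⟩
    · refine LocalEven.mem_normalizer_of_conj_le ?_
      rintro _ ⟨_, ⟨d, hd, rfl⟩, rfl⟩
      exact ⟨⟨x, hxV⟩ * d * (⟨x, hxV⟩ : N)⁻¹, S.conjX hd, by simp⟩
    · refine LocalEven.mem_normalizer_of_conj_le ?_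
      rintro _ ⟨_, ⟨d, hd, rfl⟩, rfl⟩
      exact ⟨⟨a, haV⟩ * d * (⟨a, haV⟩ : N)⁻¹, (mem_normalizer_iff.mp S.normA _).mp hd, by simp⟩
    · rw [← map_mul, ← map_mul]
      exact (hker _).mpr (by simpa using S.cube ▸ one_mem V)
    · rw [← map_mul]
      exact (hker _).mpr (by simpa using S.aa ▸ one_mem V)
    · rw [← map_mul, ← map_mul, ← map_inv]
      congr 1
      exact Subtype.ext S.inv
    · rintro _ ⟨d, hd, rfl⟩ hcomm
      rw [hker]
      have h1 : (d : G)⁻¹ * (x * d * x⁻¹) ∈ V := by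
        refine (hker (d⁻¹ * (⟨x, hxV⟩ * d * (⟨x, hxV⟩ : N)⁻¹))).mp ?_
        simp only [map_mul, map_inv]
        rw [hcomm]; group
      obtain ⟨g, hg, hge⟩ := hsurj _ h1
      have hfix : x * ((d : G) * g⁻¹) = (d : G) * g⁻¹ * x := by
        calc x * ((d : G) * g⁻¹) = (x * d * x⁻¹) * (x * g * x⁻¹)⁻¹ * x := by group
          _ = (d : G) * ((d : G)⁻¹ * (x * d * x⁻¹)) * (x * g * x⁻¹)⁻¹ * x := by group
          _ = (d : G) * g⁻¹ * x := by rw [← hge]; group
      have hd1 := S.free _ (mul_mem hd (inv_mem (hVD hg))) hfix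
      show (d : G) ∈ V
      have e : (d : G) = g := mul_inv_eq_one.mp hd1
      rw [e]
      exact hg
  have hbi : π ⟨b, hDV hbD⟩ ∈ fixA ((D.subgroupOf N).map π) (π ⟨a, haV⟩) := by
    refine mem_fixA.mpr ⟨mem_map_of_mem _ hbD, ?_⟩
    rw [← map_mul, ← map_mul]
    congr 1
    exact Subtype.ext hab
  have hci : π ⟨c, hDV hcD⟩ ∈ fixA ((D.subgroupOf N).map π) (π ⟨a, haV⟩) := by
    refine mem_fixA.mpr ⟨mem_map_of_mem _ hcD, ?_⟩
    rw [← map_mul, ← map_mul]
    congr 1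
    exact Subtype.ext hac
  have hbc' : π ⟨b, hDV hbD⟩ * π ⟨c, hDV hcD⟩ = π ⟨c, hDV hcD⟩ * π ⟨b, hDV hbD⟩ := by
    refine commutatorElement_eq_one_iff_mul_comm.mp ?_
    rw [commutatorElement_def, ← map_inv, ← map_inv, ← map_mul, ← map_mul, ← map_mul]
    exact (hker _).mpr hbc
  have h := T.cross hbi hci (by rw [← map_mul]; exact (hker _).mpr hb2)
    (by rw [← map_mul]; exact (hker _).mpr hc2) hbc'
  have := (hker (⟨b, hDV hbD⟩ * (⟨x, hxV⟩ * ⟨c, hDV hcD⟩ * (⟨x, hxV⟩ : N)⁻¹) * (⟨b, hDV hbD⟩ : N)⁻¹ *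
    (⟨x, hxV⟩ * ⟨c, hDV hcD⟩ * (⟨x, hxV⟩ : N)⁻¹)⁻¹)).mp (by
      simp only [map_mul, map_inv]
      rw [h]; group)
  simpa using this

namespace OffenderData

variable {X D T : Subgroup G} {z x a : G}

theorem normalizer_zTwo (O : OffenderData X D T z x a) :
    x ∈ normalizer (zTwo D : Set G) ∧ a ∈ normalizer (zTwo D : Set G) :=
  ⟨normalizer_le_normalizer_zTwo D O.inv3.normX, normalizer_le_normalizer_zTwo D O.inv3.normA⟩

/-- The fixed points of the involution form a cyclic group. -/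
theorem exists_generator (O : OffenderData X D T z x a) :
    ∃ c ∈ fixA D a, fixA D a = zpowers c := by
  haveI : Fact (Nat.Prime 2) := ⟨Nat.prime_two⟩
  have hCp : IsPGroup 2 (fixA D a) := O.inv3.two.to_le inf_le_left
  have huniq : ∀ H K : Subgroup (fixA D a), Nat.card H = 2 → Nat.card K = 2 → H = K := by
    suffices hz : ∀ H : Subgroup (fixA D a), Nat.card H = 2 → H = zpowers ⟨z, O.z_mem⟩ from
      fun H K hH hK => (hz H hH).trans (hz K hK).symm
    intro H hH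
    symm
    refine eq_of_le_of_card_ge (zpowers_le.mpr ?_) (le_of_eq ?_)
    · obtain ⟨t, ht⟩ := exists_prime_orderOf_dvd_card' (G := H) 2 (by rw [hH])
      have ht2 : ((t : fixA D a) : G) * ((t : fixA D a) : G) = 1 := by
        have h2 : t * t = 1 := by rw [← pow_two, ← ht]; exact pow_orderOf_eq_one t
        exact congrArg (fun w : H => ((w : fixA D a) : G)) h2
      rcases O.fix_invol _ (t : fixA D a).2 ht2 with e | e
      · exfalso
        have : t = 1 := Subtype.ext (Subtype.ext e)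
        rw [this, orderOf_one] at ht
        omega
      · have : (⟨z, O.z_mem⟩ : fixA D a) = t := Subtype.ext e.symm
        rw [this]; exact t.2
    · rw [hH, Nat.card_zpowers]
      exact (orderOf_eq_prime (p := 2) (Subtype.ext (by
        show z ^ 2 = 1
        rw [pow_two]; exact O.z_sq)) (fun e => O.z_ne (congrArg Subtype.val e))).symm
  have cyc : IsCyclic (fixA D a) := by
    rcases Cfsg.Agent.S0016.result 2 hCp huniq with hc | ⟨-, n, ⟨e⟩⟩
    · exact hc
    rcases n with - | n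
    · haveI : IsCyclic (QuaternionGroup (2 ^ 0)) := QuaternionGroup.quaternionGroup_one_isCyclic
      exact e.isCyclic.mpr inferInstance
    exfalso
    obtain ⟨hxV, haV⟩ := O.normalizer_zTwo
    have hzV : z ∈ zTwo D := O.invol z (mem_fixA.mp O.z_mem).1 O.z_sq
    have hVD : zTwo D ≤ D := fun v hv => hv.1
    set m : ℕ := 2 ^ n with hm
    have h2m : (2 : ℕ) ^ (n + 1) = 2 * m := by rw [hm, pow_succ']
    set i := e.symm (QuaternionGroup.a ((m : ℕ) : ZMod (2 * 2 ^ (n + 1)))) with hi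
    set j := e.symm (QuaternionGroup.xa (0 : ZMod (2 * 2 ^ (n + 1)))) with hj
    have hsq : i * i = j * j := by
      rw [hi, hj, ← map_mul, ← map_mul, QuaternionGroup.a_mul_a, QuaternionGroup.xa_mul_xa]
      congr 2
      rw [add_zero, sub_zero, h2m]
      push_cast
      ring
    have hconj : j * i * j⁻¹ = i⁻¹ := by
      rw [hi, hj, ← map_inv, ← map_mul, ← map_inv]
      rw [← map_mul]
      congr 1
      rw [mul_inv_eq_iff_eq_mul]
      show QuaternionGroup.xa _ = QuaternionGroup.a (-_) * QuaternionGroup.xa _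
      rw [QuaternionGroup.a_mul_xa]
      congr 1
      ring
    have hi4 : ((i * i : fixA D a) : G) = z := by
      have hne : i * i ≠ 1 := by
        intro h1
        rw [hi, ← map_mul, QuaternionGroup.a_mul_a, MulEquiv.map_eq_one_iff, QuaternionGroup.one_def] at h1
        have h2 := QuaternionGroup.a.inj h1
        rw [← Nat.cast_add, ZMod.natCast_eq_zero_iff] at h2
        have := Nat.le_of_dvd (by positivity) h2
        rw [h2m] at this
        have : 0 < m := by positivity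
        omega
      have h4 : (i * i) * (i * i) = 1 := by
        rw [hi, ← map_mul, ← map_mul, QuaternionGroup.a_mul_a, QuaternionGroup.a_mul_a, MulEquiv.map_eq_one_iff,
          QuaternionGroup.one_def]
        congr 1
        rw [← Nat.cast_add, ← Nat.cast_add, ZMod.natCast_eq_zero_iff, h2m]
        exact ⟨1, by ring⟩
      rcases O.fix_invol _ (i * i).2 (congrArg Subtype.val h4) with h | h
      · exact absurd (Subtype.ext h) hne
      · exact h
    refine O.inv3.no_quaternion hVD (fun v hv => hv.2.1) (fun v hv => hv.2.2) hxV haV O.invol hzV O.z_ne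
      (fun v hv hav => O.fix_invol v (mem_fixA.mpr ⟨hVD hv, hav⟩) hv.2.1) ?_ (i := (i : G)) (j := (j : G))
      i.2 j.2 hi4 (by rw [← hi4, hsq]; rfl) (congrArg Subtype.val hconj)
    intro b hb c hc hb2 hc2 hbc
    exact O.inv3.cross_mod hVD ((le_normalizer).trans (normalizer_le_normalizer_zTwo D)) hxV haV hb hc hb2 hc2 hbc
  obtain ⟨c, hc⟩ := IsCyclic.exists_generator (α := fixA D a)
  refine ⟨c, c.2, le_antisymm (fun d hd => ?_) (zpowers_le.mpr c.2)⟩
  obtain ⟨m, hm⟩ := mem_zpowers_iff.mp (hc ⟨d, hd⟩)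
  exact mem_zpowers_iff.mpr ⟨m, congrArg Subtype.val hm⟩

theorem fix_comm (O : OffenderData X D T z x a) :
    (∀ b ∈ fixA D a, ∀ c ∈ fixA D a, b * c = c * b) ∧
      ∀ b ∈ fixA D a, ∀ c ∈ fixA D a, b * (x * c * x⁻¹) = x * c * x⁻¹ * b := by
  obtain ⟨c, hc, he⟩ := O.exists_generator
  have hcx : Commute c (x * c * x⁻¹) := (O.inv3.comm_self hc).2.2.1
  refine ⟨fun b hb d hd => ?_, fun b hb d hd => ?_⟩ <;> rw [he] at hb hd <;>
    obtain ⟨m, rfl⟩ := mem_zpowers_iff.mp hb <;> obtain ⟨n, rfl⟩ := mem_zpowers_iff.mp hd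
  · exact ((Commute.refl c).zpow_zpow m n).eq
  · rw [← conj_zpow]
    exact (hcx.zpow_zpow m n).eq

theorem span (O : OffenderData X D T z x a) :
    ∀ d ∈ D, ∃ b ∈ fixA D a, ∃ c ∈ fixA D a, d = x * b * x⁻¹ * (x⁻¹ * c * x) :=
  O.inv3.span O.fix_comm.1 O.fix_comm.2

theorem comm (O : OffenderData X D T z x a) : ∀ d ∈ D, ∀ e ∈ D, d * e = e * d := by
  obtain ⟨hcc, hcx⟩ := O.fix_comm
  have hx : ∀ {g k : G}, g * k = k * g → ∀ w : G, Commute (w * g * w⁻¹) (w * k * w⁻¹) := fun {g k} hgk w => by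
    show w * g * w⁻¹ * (w * k * w⁻¹) = w * k * w⁻¹ * (w * g * w⁻¹)
    calc w * g * w⁻¹ * (w * k * w⁻¹) = w * (g * k) * w⁻¹ := by group
      _ = w * (k * g) * w⁻¹ := by rw [hgk]
      _ = w * k * w⁻¹ * (w * g * w⁻¹) := by group
  intro d hd e he
  obtain ⟨b, hb, c, hc, rfl⟩ := O.span d hd
  obtain ⟨b', hb', c', hc', rfl⟩ := O.span e he
  have hinv : ∀ g : G, x⁻¹ * g * x = x * (x * g * x⁻¹) * x⁻¹ := fun g => by
    calc x⁻¹ * g * x = (x * x) * g * (x * x)⁻¹ := by rw [O.inv3.xsq, inv_inv]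
      _ = x * (x * g * x⁻¹) * x⁻¹ := by group
  have h1 := hx (hcc b hb b' hb') x
  have h2 : Commute (x * b * x⁻¹) (x⁻¹ * c' * x) := by rw [hinv]; exact hx (hcx b hb c' hc') x
  have h3 : Commute (x * b' * x⁻¹) (x⁻¹ * c * x) := by rw [hinv]; exact hx (hcx b' hb' c hc) x
  have h4 : Commute (x⁻¹ * c * x) (x⁻¹ * c' * x) := by
    have := hx (hcc c hc c' hc') x⁻¹
    rwa [inv_inv] at this
  exact ((h1.mul_right h2).mul_left (h3.symm.mul_right h4)).eq

theorem card_eq (O : OffenderData X D T z x a) :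
    Nat.card D = Nat.card (fixA D a) * Nat.card (fixA D a) := by
  refine le_antisymm ?_ O.inv3.sq_card_fix_le
  rw [← Nat.card_prod]
  refine Nat.card_le_card_of_surjective
    (fun p : fixA D a × fixA D a => (⟨x * (p.1 : G) * x⁻¹ * (x⁻¹ * (p.2 : G) * x),
      mul_mem (O.inv3.fixA_conjX p.1.2) (O.inv3.conjX' (mem_fixA.mp p.2.2).1)⟩ : D)) fun d => ?_
  obtain ⟨b, hb, c, hc, he⟩ := O.span d d.2
  exact ⟨(⟨b, hb⟩, ⟨c, hc⟩), Subtype.ext he.symm⟩

/-- The normaliser of `D` normalises every invariant subgroup of `D`. -/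
theorem normalizer_le (O : OffenderData X D T z x a) {U : Subgroup G} (hU : U ≤ D)
    (hxU : x ∈ normalizer (U : Set G)) (haU : a ∈ normalizer (U : Set G)) :
    normalizer (D : Set G) ≤ normalizer (U : Set G) := by
  obtain ⟨c, hc, he⟩ := O.exists_generator
  obtain ⟨hcc, hcx⟩ := O.fix_comm
  have hfU : fixA U a ≤ fixA D a := inf_le_inf_right _ hU
  haveI hcyc : IsCyclic (zpowers c) := inferInstance
  obtain ⟨⟨e, heU⟩, hgen⟩ : ∃ e : fixA U a, ∀ y : fixA U a, y ∈ zpowers e := by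
    haveI : IsCyclic (fixA D a) := by rw [he]; infer_instance
    haveI : IsCyclic (fixA U a) := isCyclic_of_injective (inclusion hfU) (inclusion_injective hfU)
    exact IsCyclic.exists_generator
  have hec : e ∈ zpowers c := he ▸ hfU heU
  obtain ⟨m, hm⟩ := mem_zpowers_iff.mp hec
  have hpow : ∀ d ∈ D, d ^ m ∈ U := by
    intro d hd
    obtain ⟨b, hb, b', hb', rfl⟩ := O.span d hd
    have hcomm : Commute (x * b * x⁻¹) (x⁻¹ * b' * x) :=
      O.comm _ (O.inv3.fixA_conjX hb) _ (O.inv3.conjX' (mem_fixA.mp hb').1)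
    rw [hcomm.mul_zpow]
    rw [he] at hb hb'
    obtain ⟨i, rfl⟩ := mem_zpowers_iff.mp hb
    obtain ⟨i', rfl⟩ := mem_zpowers_iff.mp hb'
    have h1 : ∀ k : ℤ, (c ^ k) ^ m ∈ U := fun k => by
      rw [← zpow_mul, mul_comm, zpow_mul, hm]
      exact zpow_mem (mem_fixA.mp heU).1 k
    refine mul_mem ?_ ?_
    · rw [conj_zpow]
      exact (mem_normalizer_iff.mp hxU _).mp (h1 i)
    · have hh := conj_zpow (a := x⁻¹) (b := c ^ i') (i := m)
      rw [inv_inv] at hh
      rw [hh]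
      exact (mem_normalizer_iff''.mp hxU _).mp (h1 i')
  intro g hg
  refine LocalEven.mem_normalizer_of_conj_le ?_
  rintro _ ⟨u, hu, rfl⟩
  show g * u * g⁻¹ ∈ U
  obtain ⟨b, hb, b', hb', rfl⟩ := (O.inv3.mono hU hxU haU).span
    (fun p hp r hr => hcc p (hfU hp) r (hfU hr)) (fun p hp r hr => hcx p (hfU hp) r (hfU hr)) u hu
  obtain ⟨i, hi⟩ := mem_zpowers_iff.mp (hgen ⟨b, hb⟩)
  obtain ⟨i', hi'⟩ := mem_zpowers_iff.mp (hgen ⟨b', hb'⟩)
  have hi1 : b = (c ^ i) ^ m := by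
    rw [← zpow_mul, mul_comm, zpow_mul, hm]; exact (congrArg Subtype.val hi).symm
  have hi2 : b' = (c ^ i') ^ m := by
    rw [← zpow_mul, mul_comm, zpow_mul, hm]; exact (congrArg Subtype.val hi').symm
  have hcd : ∀ k : ℤ, c ^ k ∈ D := fun k => zpow_mem (mem_fixA.mp hc).1 k
  have key : x * b * x⁻¹ * (x⁻¹ * b' * x) = ((x * c ^ i * x⁻¹) * (x⁻¹ * c ^ i' * x)) ^ m := by
    have hcomm : Commute (x * c ^ i * x⁻¹) (x⁻¹ * c ^ i' * x) :=
      O.comm _ (O.inv3.conjX (hcd i)) _ (O.inv3.conjX' (hcd i'))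
    have hh := conj_zpow (a := x⁻¹) (b := c ^ i') (i := m)
    rw [inv_inv] at hh
    rw [hcomm.mul_zpow, conj_zpow, hh, hi1, hi2]
  rw [key, ← conj_zpow]
  exact hpow _ ((mem_normalizer_iff.mp hg _).mp (mul_mem (O.inv3.conjX (hcd i)) (O.inv3.conjX' (hcd i'))))

end OffenderData

end CfsgLib.SevenSpectrum
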