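import Mathlib
import Cfsg.Agent.Lib.SevenSpectrum.Quotient
import Cfsg.Agent.Lib.Classical.Dickson.TorusDihedral
import Cfsg.Agent.S1213
import Cfsg.Agent.S0508
import Cfsg.Agent.S0112
import Cfsg.Agent.S0113
import Cfsg.Agent.S0646

/-!
# Simple groups with an offender 2-local are `PSL₂` over a field of odd order
-/

set_option autoImplicit false

namespace CfsgLib.SevenSpectrum

open Subgroup Cfsg SFreeLocals

universe u

variable {G : Type u} [Group G] [Finite G]

theorem no_index_two [IsSimpleGroup G] (hna : ¬ IsMulCommutative G) (H : Subgroup G) : H.index ≠ 2 := by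
  intro h
  haveI := normal_of_index_eq_two h
  rcases (inferInstance : H.Normal).eq_bot_or_eq_top with e | e
  · rw [e, index_bot] at h
    haveI : Fact (Nat.Prime 2) := ⟨Nat.prime_two⟩
    haveI := isCyclic_of_prime_card h
    exact hna inferInstance
  · rw [e, index_top] at h
    omega

/-- With centralisers of involutions 2-groups no Sylow 2-subgroup is semidihedral or wreathed. -/
theorem not_qd_or_wreathed (h : Spec G) [IsSimpleGroup G] (hna : ¬ IsMulCommutative G) (S : Sylow 2 G) {t : G}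
    (ht : orderOf t = 2) : ¬ (IsQuasiDihedral (S : Subgroup G) ∨ IsWreathed (S : Subgroup G)) := by
  intro hS
  haveI : Fact (Nat.Prime 2) := ⟨Nat.prime_two⟩
  obtain ⟨-, -, ⟨K, -, -, hK2, hKP⟩, -⟩ := Cfsg.Agent.S1213.result S hS (no_index_two hna) t ht
  have hKp : IsPGroup 2 K := (h.centralizer_isPGroup ht).to_subgroup K
  obtain ⟨P⟩ := (inferInstance : Nonempty (Sylow 2 K))
  obtain ⟨m, -, ⟨e⟩⟩ := hKP P
  obtain ⟨j, hj⟩ := IsPGroup.iff_card.mp hKp
  have hj0 : j ≠ 0 := by
    rintro rfl
    have h1 : Nat.card (P : Subgroup K) ≤ 1 := (card_le_card_group _).trans (by rw [hj, pow_zero])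
    rw [Nat.card_congr e.toEquiv, Nat.card_eq_fintype_card, QuaternionGroup.card] at h1
    have : 0 < 2 ^ m := by positivity
    omega
  obtain ⟨j, rfl⟩ := Nat.exists_eq_succ_of_ne_zero hj0
  obtain ⟨H, hH⟩ := Sylow.exists_subgroup_card_pow_prime 2 (n := j) (G := K)
    (by rw [hj]; exact pow_dvd_pow 2 (Nat.le_succ j))
  refine hK2 H ?_
  have e2 := H.card_mul_index
  rw [hH, hj, pow_succ] at e2
  exact Nat.eq_of_mul_eq_mul_left (by positivity) e2

theorem isPSL_of_offender (h : Spec G) [IsSimpleGroup G] (hna : ¬ IsMulCommutative G) {T₀ T A : Subgroup G}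
    (hT₀ : IsPGroup 2 T₀) (hT₀ne : T₀ ≠ ⊥) (hsol : Group.IsSolvable (normalizer (T₀ : Set G)))
    (hTX : T ≤ normalizer (T₀ : Set G)) (hT : IsPGroup 2 T)
    (hTmax : ∀ R : Subgroup G, IsPGroup 2 R → T ≤ R → R ≤ normalizer (T₀ : Set G) → R ≤ T)
    (hA : IsMaxEl T A) (hAD : ¬ A ≤ pCoreOf 2 (normalizer (T₀ : Set G))) :
    ∃ (F : Type) (_ : Field F) (_ : Fintype F),
      Nonempty (G ≃* Matrix.ProjectiveSpecialLinearGroup (Fin 2) F) := by
  classical
  haveI : Fact (Nat.Prime 2) := ⟨Nat.prime_two⟩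
  set X := normalizer (T₀ : Set G) with hX
  set D := pCoreOf 2 X with hDdef
  have hDp : IsPGroup 2 D := LocalEven.isPGroup_pCoreOf 2 X
  have hDX : D ≤ X := LocalEven.pCoreOf_le 2 X
  have hXD : X ≤ normalizer (D : Set G) := LocalEven.le_normalizer_pCoreOf 2 X
  have hT₀D : T₀ ≤ D := LocalEven.le_pCoreOf le_normalizer hT₀ le_rfl
  have hne : D ≠ ⊥ := fun e => hT₀ne (le_bot_iff.mp (hT₀D.trans e.le))
  have hDT : D ≤ T := le_sup_right.trans
    (hTmax (T ⊔ D) (hT.to_sup_of_normal_right' hDp (hTX.trans hXD)) le_sup_left (sup_le hTX hDX))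
  obtain ⟨z, x, a, O⟩ := exists_offenderData h hsol hne hTX hT hDT hA hAD
  -- the normaliser of `D`
  have hND : normalizer (D : Set G) = X := le_antisymm
    (O.normalizer_le hT₀D O.xmem (hTX O.amem)) hXD
  have hCD : centralizer (D : Set G) ≤ D := by
    have hle : centralizer (D : Set G) ≤ X := hND ▸ centralizer_le_normalizer _
    refine LocalEven.le_pCoreOf hle (h.centralizer_two hDp hne) ?_
    refine hXD.trans fun g hg => ?_
    refine LocalEven.mem_normalizer_of_conj_le ?_
    rintro _ ⟨c, hc, rfl⟩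
    show g * c * g⁻¹ ∈ centralizer (D : Set G)
    refine mem_centralizer_iff.mpr fun d hd => ?_
    have h1 := mem_centralizer_iff.mp hc (g⁻¹ * d * g) ((mem_normalizer_iff''.mp hg d).mp hd)
    calc d * (g * c * g⁻¹) = g * (g⁻¹ * d * g * c) * g⁻¹ := by group
      _ = g * (c * (g⁻¹ * d * g)) * g⁻¹ := by rw [h1]
      _ = g * c * g⁻¹ * d := by group
  obtain ⟨c, hcfix, hc⟩ := O.exists_generator
  have hcD : c ∈ D := (mem_fixA.mp hcfix).1
  obtain ⟨k, hk⟩ : ∃ k, Nat.card (fixA D a) = 2 ^ k :=
    IsPGroup.iff_card.mp (hDp.to_le (inf_le_left : fixA D a ≤ D))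
  have hck : orderOf c = 2 ^ k := by rw [← Nat.card_zpowers, ← hc]; exact hk
  have hDcard : Nat.card D = 2 ^ (2 * k) := by rw [O.card_eq, hk, ← pow_add, two_mul]
  have hxz : x * z * x⁻¹ ≠ z := fun e => O.z_ne
    (O.inv3.free z (mem_fixA.mp O.z_mem).1 (mul_inv_eq_iff_eq_mul.mp e))
  have hzx2 : x * z * x⁻¹ * (x * z * x⁻¹) = 1 := by
    calc x * z * x⁻¹ * (x * z * x⁻¹) = x * (z * z) * x⁻¹ := by group
      _ = 1 := by rw [O.z_sq]; group
  have hk1 : k ≠ 0 := by
    rintro rfl
    have : fixA D a = ⊥ := card_eq_one.mp (by simpa using hk)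
    exact O.z_ne (mem_bot.mp (this ▸ O.z_mem))
  obtain ⟨S, hTS⟩ := hT.exists_le_sylow
  have hzS : z ∈ (S : Subgroup G) := hTS (hDT (mem_fixA.mp O.z_mem).1)
  have hz2 : orderOf z = 2 := orderOf_eq_prime (by rw [pow_two]; exact O.z_sq) O.z_ne
  have haS : a ∈ (S : Subgroup G) := hTS O.amem
  rcases Nat.lt_or_ge 1 k with hk2 | hk2
  · -- wreathed Sylow 2-subgroup
    exfalso
    have hNT : normalizer (T : Set G) ≤ X := by
      intro g hg
      rw [← hND]
      refine LocalEven.mem_normalizer_of_conj_le ?_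
      rintro _ ⟨d₀, hd₀, rfl⟩
      show g * d₀ * g⁻¹ ∈ D
      by_contra hbad
      have hconjT : ∀ d ∈ D, g * d * g⁻¹ ∈ T := fun d hd => (mem_normalizer_iff.mp hg d).mp (hDT hd)
      have ht := (O.T_mem _ (hconjT d₀ hd₀)).resolve_left hbad
      have hsq : ∀ d ∈ D, g * (d * d) * g⁻¹ ∈ fixA D a := by
        intro d hd
        have hD2 : g * (d * d) * g⁻¹ ∈ D := by
          have e : g * (d * d) * g⁻¹ = g * d * g⁻¹ * (g * d * g⁻¹) := by group
          rw [e]
          rcases O.T_mem _ (hconjT d hd) with hh | hh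
          · exact mul_mem hh hh
          · set s := g * d * g⁻¹
            have : s * s = (a * a)⁻¹ * (a * (a * s) * a⁻¹ * (a * s)) := by group
            rw [this, O.inv3.aa, inv_one, one_mul]
            exact mul_mem ((mem_normalizer_iff.mp O.inv3.normA _).mp hh) hh
        refine mem_fixA.mpr ⟨hD2, ?_⟩
        set s := g * d₀ * g⁻¹
        set v := g * (d * d) * g⁻¹
        have h1 : s * v = v * s := by
          calc s * v = g * (d₀ * (d * d)) * g⁻¹ := by simp only [s, v]; group
            _ = g * (d * d * d₀) * g⁻¹ := by rw [O.comm d₀ hd₀ _ (mul_mem hd hd)]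
            _ = v * s := by simp only [s, v]; group
        have h2 : a * s * v = v * (a * s) := O.comm _ ht _ hD2
        calc a * v = a * (s * v * s⁻¹) := by rw [h1, mul_inv_cancel_right]
          _ = a * s * v * s⁻¹ := by group
          _ = v * (a * s) * s⁻¹ := by rw [h2]
          _ = v * a := by group
      set e := c ^ 2 ^ (k - 2) with he
      have heD : e ∈ D := pow_mem hcD _
      have heez : e * e = z := by
        have he2 : e * e = c ^ 2 ^ (k - 1) := by
          rw [he, ← pow_add, ← two_mul, ← pow_succ']; congr 2; omega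
        rw [he2]
        have hne1 : c ^ 2 ^ (k - 1) ≠ 1 := by
          intro h1
          have := orderOf_dvd_of_pow_eq_one h1
          rw [hck] at this
          have := Nat.pow_dvd_pow_iff_le_right (by norm_num : 1 < 2) |>.mp this
          omega
        have hsq1 : c ^ 2 ^ (k - 1) * c ^ 2 ^ (k - 1) = 1 := by
          rw [← pow_add, ← two_mul, ← pow_succ', show k - 1 + 1 = k by omega, ← hck, pow_orderOf_eq_one]
        exact ((O.fix_invol _ (pow_mem hcfix _) hsq1).resolve_left hne1)
      have h1 := hsq e heD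
      have h2 := hsq (x * e * x⁻¹) (O.inv3.conjX heD)
      rw [heez] at h1
      rw [show x * e * x⁻¹ * (x * e * x⁻¹) = x * (e * e) * x⁻¹ by group, heez] at h2
      have hv : ∀ v : G, v * v = 1 → v ≠ 1 → g * v * g⁻¹ ∈ fixA D a → g * v * g⁻¹ = z := by
        intro v hvv hv1 hmem
        refine (O.fix_invol _ hmem ?_).resolve_left fun e1 => hv1 (conj_eq_one_iff.mp e1)
        rw [show g * v * g⁻¹ * (g * v * g⁻¹) = g * (v * v) * g⁻¹ by group, hvv, mul_one, mul_inv_cancel]
      have e1 := hv z O.z_sq O.z_ne h1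
      have e2 := hv (x * z * x⁻¹) hzx2 (fun e => O.z_ne (conj_eq_one_iff.mp e)) h2
      exact hxz (mul_left_cancel (mul_right_cancel (e2.trans e1.symm)))
    have hST : T = (S : Subgroup G) := LocalEven.eq_of_inf_normalizer_le S.2 hTS
      ((inf_le_inf_left _ hNT).trans (hTmax _ (S.2.to_le inf_le_left) (le_inf hTS hTX) inf_le_right))
    have hTcard : Nat.card T = 2 * Nat.card D := by
      have hi : (D.subgroupOf T).index = 2 := by
        rw [index_eq_two_iff]
        refine ⟨⟨a, O.amem⟩, fun t => ?_⟩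
        simp only [mem_subgroupOf, Subgroup.coe_mul]
        rcases O.T_mem t t.2 with ht | ht
        · refine Or.inr ⟨ht, fun hta => O.a_notmem ?_⟩
          have := mul_mem (inv_mem ht) hta
          rwa [inv_mul_cancel_left] at this
        · refine Or.inl ⟨?_, fun htD => O.a_notmem ?_⟩
          · have : (t : G) * a = (a * a)⁻¹ * (a * (a * t) * a⁻¹) * (a * a) := by group
            rw [this, O.inv3.aa, inv_one, one_mul, mul_one]
            exact (mem_normalizer_iff.mp O.inv3.normA _).mp ht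
          · have := mul_mem ht (inv_mem htD)
            rwa [mul_inv_cancel_right] at this
      rw [← (D.subgroupOf T).card_mul_index, hi, Nat.card_congr (subgroupOfEquivOfLe hDT).toEquiv, mul_comm]
    have hxcT : x * c * x⁻¹ ∈ (S : Subgroup G) := hTS (hDT (O.inv3.conjX hcD))
    have hxcT' : x⁻¹ * c * x ∈ (S : Subgroup G) := hTS (hDT (O.inv3.conjX' hcD))
    refine not_qd_or_wreathed h hna S hz2 (Or.inr ⟨k, hk2, ?_, ⟨_, hxcT⟩, ⟨_, hxcT'⟩, ⟨a, haS⟩, ?_, ?_, ?_, ?_, ?_⟩)
    · rw [← hST, hTcard, hDcard, pow_succ, mul_comm]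
    · rw [Subgroup.orderOf_mk, ← hck]
      exact (MulAut.conj x).orderOf_eq c
    · exact Subtype.ext (O.comm _ (O.inv3.conjX hcD) _ (O.inv3.conjX' hcD))
    · rw [eq_bot_iff]
      intro w hw
      obtain ⟨i, hi⟩ := mem_zpowers_iff.mp hw.1
      obtain ⟨j, hj⟩ := mem_zpowers_iff.mp hw.2
      have hi' : x * c ^ i * x⁻¹ = (w : G) := by rw [← conj_zpow]; exact congrArg Subtype.val hi
      have hj' : x⁻¹ * c ^ j * x = (w : G) := by
        have hh := conj_zpow (a := x⁻¹) (b := c) (i := j)
        rw [inv_inv] at hh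
        rw [← hh]; exact congrArg Subtype.val hj
      have hinj := @Inv3.pair_injective _ _ _ _ _ _ O.inv3 (fixA D a) le_rfl
        (⟨c ^ i, zpow_mem hcfix i⟩, ⟨(c ^ j)⁻¹, inv_mem (zpow_mem hcfix j)⟩) (1, 1) (by
          show x * c ^ i * x⁻¹ * (x⁻¹ * (c ^ j)⁻¹ * x) = x * 1 * x⁻¹ * (x⁻¹ * 1 * x)
          rw [show x⁻¹ * (c ^ j)⁻¹ * x = (x⁻¹ * c ^ j * x)⁻¹ by group, hi', hj']; group)
      have h1 : c ^ i = 1 := congrArg (fun p : fixA D a × fixA D a => (p.1 : G)) hinj
      refine mem_bot.mpr (Subtype.ext ?_)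
      rw [← hi', h1]
      simp
    · rw [Subgroup.orderOf_mk]
      exact orderOf_eq_prime (by rw [pow_two]; exact O.inv3.aa) fun e => O.a_notmem (e ▸ one_mem D)
    · refine Subtype.ext ?_
      show a * (x * c * x⁻¹) * a⁻¹ = x⁻¹ * c * x
      rw [O.inv3.ainv, O.inv3.conjA_x (mem_fixA.mp hcfix).2]
  · -- dihedral Sylow 2-subgroup
    have hk' : k = 1 := by omega
    have hD4 : Nat.card D = 2 ^ 2 := by rw [hDcard, hk']
    obtain ⟨n, hn⟩ := IsPGroup.iff_card.mp S.2
    have hDS : D ≤ (S : Subgroup G) := hDT.trans hTS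
    set DS := D.subgroupOf (S : Subgroup G) with hDS'
    have hDScard : Nat.card DS = 2 ^ 2 := by rw [← hD4]; exact Nat.card_congr (subgroupOfEquivOfLe hDS).toEquiv
    have hDSc : centralizer (DS : Set (S : Subgroup G)) = DS := by
      refine le_antisymm (fun g hg => hCD (mem_centralizer_iff.mpr fun d hd => ?_)) fun g hg => ?_
      · exact congrArg Subtype.val (mem_centralizer_iff.mp hg ⟨d, hDS hd⟩ hd)
      · exact mem_centralizer_iff.mpr fun d hd => Subtype.ext (O.comm _ hd _ hg)
    have hn3 : 3 ≤ n := by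
      by_contra hn3
      have h1 : D = (S : Subgroup G) := eq_of_le_of_card_ge hDS
        (by rw [hD4, hn]; exact Nat.pow_le_pow_right (by norm_num) (by omega))
      exact O.a_notmem (show a ∈ D by rw [h1]; exact haS)
    have hcl := Cfsg.Agent.S0112.result n hn DS hDScard hDSc
    obtain ⟨C, hC, hCi⟩ := Cfsg.Agent.S0113.result n hn3 hn hcl
    have hnab : ∃ u v : (S : Subgroup G), u * v ≠ v * u := by
      by_contra hall
      push_neg at hall
      refine O.a_notmem (hCD (mem_centralizer_iff.mpr fun d hd => ?_))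
      exact congrArg Subtype.val (hall ⟨d, hDS hd⟩ ⟨a, haS⟩)
    obtain ⟨r, s, hr, hsr, hcase⟩ := Cfsg.Agent.S0646.result n hn3 hn C hC hCi hnab
    have hRi : (zpowers r).index = 2 := by
      have e := (zpowers r).card_mul_index
      rw [Nat.card_zpowers, hr, hn] at e
      have e2 : 2 ^ n = 2 ^ (n - 1) * 2 := by rw [← pow_succ]; congr 1; omega
      rw [e2] at e
      exact Nat.eq_of_mul_eq_mul_left (by positivity) e
    have hxzS : x * z * x⁻¹ ∈ (S : Subgroup G) := hDS (O.inv3.conjX (mem_fixA.mp O.z_mem).1)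
    set z₁ : (S : Subgroup G) := ⟨z, hzS⟩ with hz₁
    set z₂ : (S : Subgroup G) := ⟨x * z * x⁻¹, hxzS⟩ with hz₂
    rcases hcase with ⟨hs, hc1⟩ | ⟨hs, hc2⟩ | ⟨hn4, hs, hc3⟩ | ⟨hn4, hs, hc4⟩
    · -- dihedral
      have hs' : s * s = 1 := by rw [← pow_two]; exact hs
      obtain ⟨H, -, -, hH, ⟨e⟩⟩ := Classical.Dickson.exists_dihedral_sub (m := 2 ^ (n - 1)) (by positivity)
        hr hs' (by rw [inv_eq_of_mul_eq_one_right hs'] at hc1; exact hc1) hsr
      have hHtop : H = ⊤ := H.eq_top_of_card_eq (by rw [hH, hn, ← pow_succ']; congr 1; omega)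
      have e' : (S : Subgroup G) ≃* DihedralGroup (2 ^ (n - 1)) :=
        ((MulEquiv.subgroupCongr hHtop).trans topEquiv).symm.trans e
      obtain ⟨t, ht, ht2⟩ : ∃ t : Subgroup.center (S : Subgroup G), t ≠ 1 ∧ t * t = 1 := by
        haveI : Nontrivial (S : Subgroup G) :=
          (Finite.one_lt_card_iff_nontrivial).mp (by rw [hn]; exact Nat.one_lt_two_pow (by omega))
        haveI := S.2.center_nontrivial
        obtain ⟨j, hj, hjc⟩ := (S.2.to_subgroup (center (S : Subgroup G))).nontrivial_iff_card.mp inferInstance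
        obtain ⟨t, ht⟩ := exists_prime_orderOf_dvd_card' 2
          (hjc ▸ dvd_pow_self 2 hj.ne' : 2 ∣ Nat.card (center (S : Subgroup G)))
        refine ⟨t, fun e => ?_, by have e := pow_orderOf_eq_one t; rw [ht] at e; rwa [pow_two] at e⟩
        rw [e, orderOf_one] at ht; omega
      set t' : G := ((t : (S : Subgroup G)) : G) with ht'
      have ht'2 : orderOf t' = 2 := by
        refine orderOf_eq_prime ?_ fun e => ht (Subtype.ext (Subtype.ext e))
        rw [pow_two]
        exact congrArg (fun u : center (S : Subgroup G) => ((u : (S : Subgroup G)) : G)) ht2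
      have hO : (⊥ : Subgroup G) = (oddCore (centralizer ({t'} : Set G))).map
          (centralizer ({t'} : Set G)).subtype := by
        have h0 : oddCore (centralizer ({t'} : Set G)) = ⊥ := by
          obtain ⟨j, hj⟩ := IsPGroup.iff_card.mp (h.centralizer_isPGroup ht'2)
          have hodd := Cores.odd_card_oddCore (G := centralizer ({t'} : Set G))
          have hdvd : Nat.card (oddCore (centralizer ({t'} : Set G))) ∣ 2 ^ j :=
            hj ▸ card_subgroup_dvd_card _
          obtain ⟨i, -, hi⟩ := (Nat.dvd_prime_pow Nat.prime_two).mp hdvd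
          refine card_eq_one.mp ?_
          rw [hi] at hodd ⊢
          rcases i with - | i
          · rfl
          · exact absurd hodd (Nat.not_odd_iff_even.mpr (Nat.even_pow.mpr ⟨even_two, by omega⟩))
        rw [h0, Subgroup.map_bot]
      obtain ⟨F, i1, i2, -, hiso⟩ := Cfsg.Agent.S0508.result S (2 ^ (n - 1))
        (Nat.le_self_pow (by omega) 2) ⟨e'⟩ t' ht'2 (t : (S : Subgroup G)).2
        (fun u hu => congrArg Subtype.val (mem_center_iff.mp t.2 ⟨u, hu⟩)) ⊥ hO
        (fun hb => absurd rfl hb) (fun u _ hu => absurd (mem_centralizer_iff.mpr fun w hw => by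
          rw [SetLike.mem_coe, mem_bot] at hw; rw [hw, one_mul, mul_one]) hu)
        (fun Y hY hY1 => absurd (le_bot_iff.mp hY) hY1)
      exact ⟨F, i1, i2, hiso⟩
    · -- generalised quaternion
      exfalso
      have hout : ∀ d : (S : Subgroup G), d * d = 1 → d ∈ zpowers r := by
        intro d hd
        by_contra hdr
        have hw : d * s⁻¹ ∈ zpowers r :=
          (mul_mem_iff_of_index_two hRi).mpr (iff_of_false hdr (fun hh => hsr (inv_mem_iff.mp hh)))
        obtain ⟨i, hi⟩ := mem_zpowers_iff.mp hw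
        have hd' : d = r ^ i * s := by rw [hi, inv_mul_cancel_right]
        have hconj : s * r ^ i * s⁻¹ = (r ^ i)⁻¹ := by rw [← conj_zpow, hc2, inv_zpow]
        have hdd : d * d = s ^ 2 := by
          rw [hd', show r ^ i * s * (r ^ i * s) = r ^ i * (s * r ^ i * s⁻¹) * s ^ 2 by group, hconj,
            mul_inv_cancel, one_mul]
        rw [hdd, hs] at hd
        have := orderOf_dvd_of_pow_eq_one hd
        rw [hr] at this
        have := Nat.pow_dvd_pow_iff_le_right (by norm_num : 1 < 2) |>.mp this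
        omega
      have hR : ∀ d : zpowers r, d * d = 1 → d ≠ 1 →
          ∀ e : zpowers r, e * e = 1 → e ≠ 1 → d = e := by
        intro d hd hd1 e he he1
        have h1 : orderOf d = 2 := orderOf_eq_prime (by rw [pow_two]; exact hd) hd1
        have h2 : orderOf e = 2 := orderOf_eq_prime (by rw [pow_two]; exact he) he1
        have hmem : e ∈ zpowers d := Solvable.mem_zpowers_of_isCyclic (h2.trans h1.symm)
        obtain ⟨i, rfl⟩ := mem_zpowers_iff.mp hmem
        rcases Int.even_or_odd i with ⟨j, rfl⟩ | ⟨j, rfl⟩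
        · exact absurd (by rw [← two_mul, zpow_mul, zpow_two, hd, one_zpow]) he1
        · rw [zpow_add_one, zpow_mul, zpow_two, hd, one_zpow, one_mul]
      have h1 : z₁ * z₁ = 1 := Subtype.ext O.z_sq
      have h2 : z₂ * z₂ = 1 := Subtype.ext hzx2
      have := hR ⟨z₁, hout _ h1⟩ (Subtype.ext h1) (fun e => O.z_ne (congrArg (fun u : zpowers r => ((u : (S : Subgroup G)) : G)) e))
        ⟨z₂, hout _ h2⟩ (Subtype.ext h2)
        (fun e => O.z_ne (conj_eq_one_iff.mp (congrArg (fun u : zpowers r => ((u : (S : Subgroup G)) : G)) e)))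
      exact hxz (congrArg (fun u : zpowers r => ((u : (S : Subgroup G)) : G)) this).symm
    · -- modular
      exfalso
      have hr2 : s * r ^ 2 * s⁻¹ = r ^ 2 := by
        rw [← conj_pow, hc3, ← pow_mul, add_mul, one_mul, pow_add]
        have : r ^ (2 ^ (n - 2) * 2) = 1 := by
          rw [← pow_succ, show n - 2 + 1 = n - 1 by omega, ← hr, pow_orderOf_eq_one]
        rw [this, mul_one]
      have hcent : r ^ 2 ∈ centralizer (DS : Set (S : Subgroup G)) := by
        refine mem_centralizer_iff.mpr fun d _ => ?_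
        suffices d ∈ centralizer ({r ^ 2} : Set (S : Subgroup G)) from mem_centralizer_singleton_iff.mp this
        by_cases hdr : d ∈ zpowers r
        · obtain ⟨i, rfl⟩ := mem_zpowers_iff.mp hdr
          exact mem_centralizer_singleton_iff.mpr ((Commute.refl r).zpow_left i |>.pow_right 2).eq
        · have hw : d * s⁻¹ ∈ zpowers r :=
            (mul_mem_iff_of_index_two hRi).mpr (iff_of_false hdr (fun hh => hsr (inv_mem_iff.mp hh)))
          obtain ⟨i, hi⟩ := mem_zpowers_iff.mp hw
          rw [show d = r ^ i * s by rw [hi, inv_mul_cancel_right]]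
          refine mul_mem (mem_centralizer_singleton_iff.mpr ((Commute.refl r).zpow_left i |>.pow_right 2).eq)
            (mem_centralizer_singleton_iff.mpr (mul_inv_eq_iff_eq_mul.mp hr2))
      rw [hDSc] at hcent
      have hrr : r ^ 2 * r ^ 2 = 1 := by
        refine Subtype.ext ?_
        have hd : (r : G) ^ 2 ∈ D := by simpa [DS, mem_subgroupOf] using hcent
        obtain ⟨b, hb, b', hb', he⟩ := O.span _ hd
        have hsq : ∀ g ∈ fixA D a, g * g = 1 := by
          intro g hg
          have h1 : (⟨g, hg⟩ : fixA D a) ^ 2 = 1 := by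
            rw [show (2 : ℕ) = Nat.card (fixA D a) by rw [hk, hk', pow_one]]
            exact pow_card_eq_one'
          rw [← pow_two]; exact congrArg Subtype.val h1
        show (r : G) ^ 2 * (r : G) ^ 2 = 1
        rw [he]
        have hcomm := O.comm _ (O.inv3.conjX' (mem_fixA.mp hb').1) _ (O.inv3.fixA_conjX hb)
        calc x * b * x⁻¹ * (x⁻¹ * b' * x) * (x * b * x⁻¹ * (x⁻¹ * b' * x))
            = x * b * x⁻¹ * ((x⁻¹ * b' * x) * (x * b * x⁻¹)) * (x⁻¹ * b' * x) := by group
          _ = x * b * x⁻¹ * ((x * b * x⁻¹) * (x⁻¹ * b' * x)) * (x⁻¹ * b' * x) := by rw [hcomm]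
          _ = x * (b * b) * x⁻¹ * (x⁻¹ * (b' * b') * x) := by group
          _ = 1 := by rw [hsq b hb, hsq b' hb']; group
      have : orderOf r ∣ 2 ^ 2 := orderOf_dvd_of_pow_eq_one (by rw [pow_two 2, pow_mul, pow_two]; exact hrr)
      rw [hr] at this
      have := Nat.pow_dvd_pow_iff_le_right (by norm_num : 1 < 2) |>.mp this
      omega
    · -- semidihedral
      exfalso
      refine not_qd_or_wreathed h hna S hz2 (Or.inl ⟨n - 1, by omega, ?_, r, s, hr, ?_, ?_⟩)
      · rw [hn]; congr 1; omega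
      · exact orderOf_eq_prime hs fun e => hsr (e ▸ one_mem _)
      · rw [show n - 1 - 1 = n - 2 by omega]; exact hc4

end CfsgLib.SevenSpectrum
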