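import Mathlib
import Cfsg.Agent.Lib.SevenSpectrum.Embedded
import Cfsg.Agent.S1224
import Cfsg.Agent.S0340

/-!
# The action on the cosets of the strongly embedded subgroup is a Zassenhaus action
-/

set_option autoImplicit false

namespace CfsgLib.SevenSpectrum

open Subgroup Cfsg MulAction

universe u

variable {G : Type u} [Group G] [Finite G]

/-- The two-point stabiliser. -/
def pairStab {M : Subgroup G} (a b : G ⧸ M) : Subgroup G := stabilizer G a ⊓ stabilizer G b

theorem mem_pairStab {M : Subgroup G} {a b : G ⧸ M} {g : G} : g ∈ pairStab a b ↔ g • a = a ∧ g • b = b :=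
  Iff.rfl

namespace EmbeddedData

variable {M D : Subgroup G} {q : ℕ} {y z : G}

theorem inter_bot (E : EmbeddedData G M D q y z) : D ⊓ zpowers y = ⊥ :=
  eq_bot_iff.mpr fun w hw => mem_bot.mpr (E.data.inter w hw.1 (le_normalizer hw.2))

theorem card_M (E : EmbeddedData G M D q y z) : Nat.card M = Nat.card D * q := by
  have hM : M = D ⊔ zpowers y := le_antisymm
    (fun g hg => by
      obtain ⟨d, hd, w, hw, rfl⟩ := E.split g hg
      exact mul_mem (mem_sup_left hd) (mem_sup_right hw))
    (sup_le E.le (zpowers_le.mpr E.data.mem))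
  rw [hM, Solvable.card_sup_of_disjoint (zpowers_le.mpr (E.norm E.data.mem)) E.inter_bot, Nat.card_zpowers,
    E.data.order]

theorem card_dvd (E : EmbeddedData G M D q y z) {K : Subgroup G} (hK : K ≤ M) (hd : D ⊓ K = ⊥) :
    Nat.card K ∣ q := by
  have h1 := card_dvd_of_le (sup_le E.le hK : D ⊔ K ≤ M)
  rw [Solvable.card_sup_of_disjoint (hK.trans E.norm) hd, E.card_M] at h1
  exact Nat.dvd_of_mul_dvd_mul_left Nat.card_pos h1

theorem central (E : EmbeddedData G M D q y z) {u : G} (hu : orderOf u = 2) (huM : u ∉ M) {t : G}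
    (htM : t ∈ M) (ht : orderOf t = 2) :
    (∃ w ∈ zpowers y, w * z * w⁻¹ = t) ∧ ∀ d ∈ D, d * t = t * d := by
  obtain ⟨m, hm, hme⟩ := (Cfsg.Agent.S1225.result M E.embedded u hu huM z t E.z_ord (E.le E.z_mem) ht htM).1
  obtain ⟨d, hd, w, hw, rfl⟩ := E.split m hm.1
  have hwn : w ∈ normalizer (D : Set G) := E.norm (zpowers_le.mpr E.data.mem hw)
  have hc : ∀ e ∈ D, e * (w * z * w⁻¹) = w * z * w⁻¹ * e := by
    intro e he
    have h1 := E.z_central (w⁻¹ * e * w) ((mem_normalizer_iff''.mp hwn e).mp he)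
    calc e * (w * z * w⁻¹) = w * (w⁻¹ * e * w * z) * w⁻¹ := by group
      _ = w * (z * (w⁻¹ * e * w)) * w⁻¹ := by rw [h1]
      _ = w * z * w⁻¹ * e := by group
  have he : t = w * z * w⁻¹ := by
    calc t = d * w * z * (d * w)⁻¹ := hme.symm
      _ = d * (w * z * w⁻¹) * d⁻¹ := by group
      _ = w * z * w⁻¹ := by rw [hc d hd, mul_inv_cancel_right]
  exact ⟨⟨w, hw, he.symm⟩, he ▸ hc⟩

theorem card_invol (E : EmbeddedData G M D q y z) (h : Spec G) {u : G} (hu : orderOf u = 2) (huM : u ∉ M) :
    Nat.card {t : G // orderOf t = 2 ∧ t ∈ M} = q := by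
  rw [← E.data.order, ← Nat.card_zpowers]
  symm
  refine Nat.card_eq_of_bijective (fun w : zpowers y => (⟨(w : G) * z * (w : G)⁻¹,
    ((MulAut.conj (w : G)).orderOf_eq z).trans E.z_ord,
    mul_mem (mul_mem (zpowers_le.mpr E.data.mem w.2) (E.le E.z_mem))
      (inv_mem (zpowers_le.mpr E.data.mem w.2))⟩ : {t : G // orderOf t = 2 ∧ t ∈ M})) ⟨?_, ?_⟩
  · intro v w hvw
    have e : (v : G) * z * (v : G)⁻¹ = (w : G) * z * (w : G)⁻¹ := congrArg Subtype.val hvw
    set r := (w : G)⁻¹ * v with hr
    have hrc : r * z = z * r := by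
      calc r * z = (w : G)⁻¹ * ((v : G) * z * (v : G)⁻¹) * v := by rw [hr]; group
        _ = z * r := by rw [e, hr]; group
    have hr1 : r = 1 := by
      by_contra hne
      have hd : orderOf r ∣ q := by
        rw [← E.data.order, ← Nat.card_zpowers, ← Nat.card_zpowers]
        exact card_dvd_of_le (zpowers_le.mpr (mul_mem (inv_mem w.2) v.2))
      exact h.no_commute_involution E.data.prime E.data.ne_two
        (((Nat.dvd_prime E.data.prime).mp hd).resolve_left fun e => hne (orderOf_eq_one_iff.mp e)) E.z_ord hrc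
    exact Subtype.ext (inv_mul_eq_one.mp hr1).symm
  · rintro ⟨t, ht, htM⟩
    obtain ⟨⟨w, hw, he⟩, -⟩ := E.central hu huM htM ht
    exact ⟨⟨w, hw⟩, Subtype.ext he⟩

theorem isPSL (E : EmbeddedData G M D q y z) (h : Spec G) [IsSimpleGroup G] :
    ∃ (F : Type) (_ : Field F) (_ : Fintype F),
      Nonempty (G ≃* Matrix.ProjectiveSpecialLinearGroup (Fin 2) F) := by
  classical
  haveI : Fact (Nat.Prime 2) := ⟨Nat.prime_two⟩
  haveI := Fact.mk E.data.prime
  obtain ⟨hq, hq2⟩ := And.intro E.data.prime E.data.ne_two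
  have hq3 : 3 ≤ q := by have := hq.two_le; omega
  set o : G ⧸ M := ((1 : G) : G ⧸ M) with ho
  have hstab : stabilizer G o = M := stabilizer_quotient M
  have hmemM : ∀ g : G, g • o = o ↔ g ∈ M := fun g => by rw [← mem_stabilizer_iff, hstab]
  have hsurj : ∀ a : G ⧸ M, ∃ g : G, g • o = a := fun a => by
    obtain ⟨g, rfl⟩ := QuotientGroup.mk_surjective a
    exact ⟨g, by show ((g * 1 : G) : G ⧸ M) = _; rw [mul_one]⟩
  -- the two-point stabilisers are odd
  have hodd : ∀ g : G, g ∉ M → ∀ k ∈ pairStab o (g • o), k ∈ D → k = 1 := by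
    intro g hg k hk hkD
    have hkI : k ∈ M ⊓ M.map (MulAut.conj g).toMonoidHom := by
      refine ⟨E.le hkD, g⁻¹ * k * g, ?_, by simp [mul_assoc]⟩
      refine (hmemM _).mp ?_
      rw [mul_smul, mul_smul, (mem_pairStab.mp hk).2, inv_smul_smul]
    obtain ⟨j, hj⟩ := IsPGroup.iff_orderOf.mp E.two ⟨k, hkD⟩
    rw [Subgroup.orderOf_mk] at hj
    by_contra hk1
    have hdvd : orderOf k ∣ Nat.card ↥(M ⊓ M.map (MulAut.conj g).toMonoidHom) := by
      rw [← Nat.card_zpowers]; exact card_dvd_of_le (zpowers_le.mpr hkI)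
    have ho2 := (E.embedded.2.2 g hg).of_dvd_nat hdvd
    rw [hj] at ho2
    rcases j with - | j
    · exact hk1 (orderOf_eq_one_iff.mp (by simpa using hj))
    · exact absurd ho2 (Nat.not_odd_iff_even.mpr (Nat.even_pow.mpr ⟨even_two, Nat.succ_ne_zero j⟩))
  have hKM : ∀ b : G ⧸ M, pairStab o b ≤ M := fun b k hk => (hmemM k).mp (mem_pairStab.mp hk).1
  have hKdvd : ∀ b : G ⧸ M, b ≠ o → Nat.card ↥(pairStab o b) ∣ q := by
    intro b hb
    obtain ⟨g, rfl⟩ := hsurj b
    exact E.card_dvd (hKM _) (eq_bot_iff.mpr fun k hk =>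
      mem_bot.mpr (hodd g (fun hg => hb ((hmemM g).mpr hg)) k hk.2 hk.1))
  -- involutions
  obtain ⟨u, hu, huM⟩ : ∃ u : G, orderOf u = 2 ∧ u ∉ M := by
    obtain ⟨g, hg⟩ : ∃ g : G, g ∉ M := by
      by_contra hall
      push_neg at hall
      exact E.embedded.1 (eq_top_iff.mpr fun g _ => hall g)
    refine ⟨g * z * g⁻¹, ((MulAut.conj g).orderOf_eq z).trans E.z_ord, fun hmem => ?_⟩
    have hzI : g * z * g⁻¹ ∈ M ⊓ M.map (MulAut.conj g).toMonoidHom :=
      ⟨hmem, z, E.le E.z_mem, rfl⟩
    have hdvd : orderOf (g * z * g⁻¹) ∣ Nat.card ↥(M ⊓ M.map (MulAut.conj g).toMonoidHom) := by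
      rw [← Nat.card_zpowers]; exact card_dvd_of_le (zpowers_le.mpr hzI)
    have ho2 := (E.embedded.2.2 g hg).of_dvd_nat hdvd
    rw [show orderOf (g * z * g⁻¹) = 2 from ((MulAut.conj g).orderOf_eq z).trans E.z_ord] at ho2
    exact absurd ho2 (by decide)
  have hswap : ∀ a b : G ⧸ M, a ≠ b → Nat.card {i : G // orderOf i = 2 ∧ i • a = b} = q :=
    fun a b hab => (Cfsg.Agent.S1224.result M E.embedded a b hab).trans (E.card_invol h hu huM)
  have hswap' : ∀ (a b : G ⧸ M) (i : G), orderOf i = 2 → i • a = b → i • b = a := by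
    intro a b i hi hab
    rw [← hab, ← mul_smul, show i * i = 1 by rw [← pow_two, ← hi]; exact pow_orderOf_eq_one i, one_smul]
  have hinv2 : ∀ i : G, orderOf i = 2 → i * i = 1 := fun i hi => by
    rw [← pow_two, ← hi]; exact pow_orderOf_eq_one i
  have hcard : ∀ b : G ⧸ M, b ≠ o → Nat.card ↥(pairStab o b) = q := by
    intro b hb
    refine ((Nat.dvd_prime hq).mp (hKdvd b hb)).resolve_left fun h1 => ?_
    have htwo : 1 < Nat.card {i : G // orderOf i = 2 ∧ i • o = b} := by rw [hswap o b hb.symm]; omega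
    haveI := Finite.one_lt_card_iff_nontrivial.mp htwo
    obtain ⟨⟨i, hi, hio⟩, ⟨j, hj, hjo⟩, hne⟩ := exists_pair_ne {i : G // orderOf i = 2 ∧ i • o = b}
    have hK : i * j ∈ pairStab o b := mem_pairStab.mpr
      ⟨by rw [mul_smul, hjo, hswap' o b i hi hio], by rw [mul_smul, hswap' o b j hj hjo, hio]⟩
    rw [card_eq_one.mp h1, mem_bot] at hK
    refine hne (Subtype.ext ?_)
    show i = j
    calc i = i * j * j⁻¹ := by group
      _ = j := by rw [hK, one_mul]; exact inv_eq_of_mul_eq_one_right (hinv2 j hj)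
  -- every two-point stabiliser fixes exactly two points
  have hfix : ∀ b c : G ⧸ M, b ≠ o → c ≠ o → pairStab o b = pairStab o c → b = c := by
    intro b c hb hc heq
    by_contra hbc
    set K := pairStab o b with hK
    have hKq : Nat.card K = q := hcard b hb
    haveI : Nonempty {i : G // orderOf i = 2 ∧ i • o = b} :=
      (Nat.card_pos_iff.mp (by rw [hswap o b hb.symm]; omega)).1
    obtain ⟨i, hi, hio⟩ := Classical.arbitrary {i : G // orderOf i = 2 ∧ i • o = b}
    obtain ⟨⟨e, he⟩, he1⟩ : ∃ e : K, e ≠ 1 := K.ne_bot_iff_exists_ne_one.mp fun hb' => by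
      rw [hb', card_bot] at hKq; omega
    have he1' : e ≠ 1 := fun e' => he1 (Subtype.ext e')
    have heq' : orderOf e = q := by
      refine ((Nat.dvd_prime hq).mp ?_).resolve_left fun h' => he1' (orderOf_eq_one_iff.mp h')
      rw [← Nat.card_zpowers, ← hKq]; exact card_dvd_of_le (zpowers_le.mpr he)
    have hKe : K = zpowers e := (eq_of_le_of_card_ge (zpowers_le.mpr he)
      (by rw [hKq, Nat.card_zpowers, heq'])).symm
    -- the fixed points and the centraliser
    let F : Set (G ⧸ M) := {a | ∀ k ∈ K, k • a = a}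
    have hoF : o ∈ F := fun k hk => (mem_pairStab.mp hk).1
    have hbF : b ∈ F := fun k hk => (mem_pairStab.mp hk).2
    have hcF : c ∈ F := fun k hk => (mem_pairStab.mp (heq ▸ hk : k ∈ pairStab o c)).2
    have hnorm : ∀ (j : G) (a : G ⧸ M), a ∈ F → a ≠ o → orderOf j = 2 → j • o = a →
        j ∈ normalizer (zpowers e : Set G) := by
      intro j a haF hao hj hja
      have hKa : K = pairStab o a := eq_of_le_of_card_ge (fun k hk => mem_pairStab.mpr ⟨hoF k hk, haF k hk⟩)
        (by rw [hKq, hcard a hao])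
      rw [← hKe, hKa]
      refine LocalEven.mem_normalizer_of_conj_le ?_
      rintro _ ⟨k, hk, rfl⟩
      obtain ⟨hk1, hk2⟩ := mem_pairStab.mp hk
      have hjj := hswap' o a j hj hja
      have hjinv : j⁻¹ = j := inv_eq_of_mul_eq_one_right (hinv2 j hj)
      show j * k * j⁻¹ ∈ pairStab o a
      rw [hjinv]
      exact mem_pairStab.mpr ⟨by rw [mul_smul, mul_smul, hja, hk2, hjj],
        by rw [mul_smul, mul_smul, hjj, hk1, hja]⟩
    have hiE : i * e * i = e⁻¹ := h.inverts hq hq2 heq' hi (hnorm i b hbF hb hi hio)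
    have hii := hinv2 i hi
    have hiinv : i⁻¹ = i := inv_eq_of_mul_eq_one_right hii
    set A := centralizer ({e} : Set G) with hA
    have hAi : ∀ a ∈ A, i * a * i ∈ A := by
      intro a ha
      have h1 : a * e⁻¹ = e⁻¹ * a := ((show Commute a e from mem_centralizer_singleton_iff.mp ha).inv_right).eq
      refine mem_centralizer_singleton_iff.mpr ?_
      calc i * a * i * e = i * a * ((i * e * i) * i) := by
            rw [show i * e * i * i = i * e * (i * i) by group, hii, mul_one]; group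
        _ = i * (a * e⁻¹) * i := by rw [hiE]; group
        _ = i * (e⁻¹ * a) * i := by rw [h1]
        _ = i * ((i * e * i) * a) * i := by rw [hiE]
        _ = e * (i * a * i) := by
            rw [show i * (i * e * i * a) * i = (i * i) * e * (i * a * i) by group, hii, one_mul]
    have hfree : ∀ a ∈ A, i * a = a * i → a = 1 := by
      intro a ha hcomm
      by_contra hne
      rcases exists_prime_dvd_or_two_pow (orderOf a) (orderOf_pos a).ne' with ⟨k, hk⟩ | ⟨r, hr, hr2, hd⟩
      · obtain ⟨t, ht, ht2⟩ := exists_involution_of_two_pow hne hk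
        obtain ⟨m, rfl⟩ := mem_zpowers_iff.mp ht
        exact h.no_commute_involution hq hq2 heq' ht2
          ((show Commute e a from (mem_centralizer_singleton_iff.mp ha).symm).zpow_right m).eq
      · exact h.no_commute_involution hr hr2 (h.order_eq hr hr2 hd) hi hcomm.symm
    have hinvA : ∀ a ∈ A, i * a * i = a⁻¹ := by
      have hinj : Function.Injective
          (fun a : A => (⟨(a : G)⁻¹ * (i * a * i), mul_mem (inv_mem a.2) (hAi _ a.2)⟩ : A)) := by
        intro a a' haa
        have e' : (a : G)⁻¹ * (i * a * i) = (a' : G)⁻¹ * (i * a' * i) := congrArg Subtype.val haa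
        have hc' : i * ((a' : G) * (a : G)⁻¹) = (a' : G) * (a : G)⁻¹ * i := by
          calc i * ((a' : G) * (a : G)⁻¹) = i * a' * i * (i⁻¹ * (a : G)⁻¹ * i⁻¹) * i := by group
            _ = (a' : G) * ((a' : G)⁻¹ * (i * a' * i)) * (i⁻¹ * (a : G)⁻¹ * i⁻¹) * i := by group
            _ = (a' : G) * ((a : G)⁻¹ * (i * a * i)) * (i⁻¹ * (a : G)⁻¹ * i⁻¹) * i := by rw [e']
            _ = (a' : G) * (a : G)⁻¹ * i := by group
        exact Subtype.ext (mul_inv_eq_one.mp (hfree _ (mul_mem a'.2 (inv_mem a.2)) hc')).symm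
      intro a ha
      obtain ⟨g, hg⟩ := Finite.surjective_of_injective hinj ⟨a, ha⟩
      have hg' : a = (g : G)⁻¹ * (i * g * i) := (congrArg Subtype.val hg).symm
      calc i * a * i = i * (g : G)⁻¹ * i * g * (i * i) := by rw [hg']; group
        _ = i * (g : G)⁻¹ * i * g := by rw [hii, mul_one]
        _ = i⁻¹ * (g : G)⁻¹ * i⁻¹ * g := by rw [hiinv]
        _ = a⁻¹ := by rw [hg']; group
    -- upper bound
    have hup : (Nat.card F - 1) * q ≤ Nat.card A := by
      haveI := Fintype.ofFinite (↥(F \ {o}))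
      have h1 : Nat.card (Σ a : ↥(F \ {o}), {j : G // orderOf j = 2 ∧ j • o = (a : G ⧸ M)}) =
          Nat.card ↥(F \ {o}) * q := by
        rw [Nat.card_sigma, Finset.sum_congr rfl fun (a : ↥(F \ {o})) _ => hswap o (a : G ⧸ M) (fun e' => a.2.2 e'.symm),
          Finset.sum_const, Finset.card_univ, smul_eq_mul, Nat.card_eq_fintype_card]
      have h2 : Nat.card ↥(F \ {o}) = Nat.card F - 1 := by
        rw [Nat.card_coe_set_eq, Nat.card_coe_set_eq, Set.ncard_sdiff_singleton_of_mem hoF]
      rw [← h2, ← h1]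
      refine Nat.card_le_card_of_injective (fun s => (⟨i * (s.2 : G), ?_⟩ : A)) ?_
      · obtain ⟨⟨a, haF, hao⟩, ⟨j, hj, hja⟩⟩ := s
        have hjE : j * e * j = e⁻¹ := h.inverts hq hq2 heq' hj (hnorm j a haF hao hj hja)
        have hjj := hinv2 j hj
        refine mem_centralizer_singleton_iff.mpr ?_
        show i * j * e = e * (i * j)
        calc i * j * e = i * (j * e * j) * j := by
              rw [show i * (j * e * j) * j = i * j * e * (j * j) by group, hjj, mul_one]
          _ = i * (i * e * i) * j := by rw [hjE, hiE]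
          _ = e * (i * j) := by rw [show i * (i * e * i) * j = (i * i) * e * (i * j) by group, hii, one_mul]
      · rintro ⟨⟨a, haF⟩, ⟨j, hj, hja⟩⟩ ⟨⟨a', haF'⟩, ⟨j', hj', hja'⟩⟩ hjj
        have he2 : j = j' := mul_left_cancel (congrArg Subtype.val hjj)
        subst he2
        have : a = a' := hja.symm.trans hja'
        subst this
        rfl
    -- lower bound
    have hAF : ∀ a ∈ A, ∀ f ∈ F, a • f ∈ F := by
      intro a ha f hf k hk
      rw [hKe] at hk
      obtain ⟨m, rfl⟩ := mem_zpowers_iff.mp hk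
      rw [← mul_smul, ← ((show Commute a e from mem_centralizer_singleton_iff.mp ha).zpow_right m).eq, mul_smul,
        hf (e ^ m) (hKe.symm ▸ zpow_mem (mem_zpowers e) m)]
    set r := Nat.card (orbit A o) with hr
    have hAr : Nat.card A ≤ q * r := by
      have h1 := (stabilizer A o).card_mul_index
      rw [index_stabilizer, ← Nat.card_coe_set_eq] at h1
      rw [← h1]
      refine Nat.mul_le_mul_right _ ?_
      have h2 : Nat.card (stabilizer A o) ≤ Nat.card ↥(A ⊓ M) := by
        refine Nat.card_le_card_of_injective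
          (fun a => (⟨((a : A) : G), (a : A).2, (hmemM _).mp a.2⟩ : ↥(A ⊓ M))) ?_
        intro a a' haa
        exact Subtype.ext (Subtype.ext (congrArg (fun w : ↥(A ⊓ M) => (w : G)) haa))
      refine h2.trans (Nat.le_of_dvd hq.pos (E.card_dvd inf_le_right (eq_bot_iff.mpr ?_)))
      rintro k ⟨hkD, hkA, -⟩
      exact mem_bot.mpr (h.free hq hq2 heq' E.two hkD (mem_centralizer_singleton_iff.mp hkA).symm)
    have hlow : 2 * r ≤ Nat.card F := by
      have hdisj : Disjoint (orbit A o) (orbit A b) := by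
        rw [Set.disjoint_left]
        rintro f ⟨a, ha⟩ ⟨a', ha'⟩
        set w := (a'⁻¹ * a : A) with hw
        have hwb : (w : G) • o = b := by
          show w • o = b
          rw [hw, mul_smul]
          exact inv_smul_eq_iff.mpr (ha.trans ha'.symm)
        set t := (w : G)⁻¹ * i with ht
        have hwi : (w : G)⁻¹ * i = i * (w : G) := by
          rw [← hinvA _ w.2, show i * (w : G) * i * i = i * (w : G) * (i * i) by group, hii, mul_one]
        have htM : t ∈ M := (hmemM t).mp (by
          rw [ht, mul_smul, hio]; exact inv_smul_eq_iff.mpr hwb.symm)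
        have ht1 : t ≠ 1 := by
          intro e'
          have hiA : i ∈ A := (inv_mul_eq_one.mp e') ▸ w.2
          exact h.no_commute_involution hq hq2 heq' hi (mem_centralizer_singleton_iff.mp hiA).symm
        have ht2 : orderOf t = 2 := by
          refine orderOf_eq_prime ?_ ht1
          rw [pow_two, ht]
          calc (w : G)⁻¹ * i * ((w : G)⁻¹ * i) = (w : G)⁻¹ * i * (i * (w : G)) := by rw [hwi]
            _ = (w : G)⁻¹ * (i * i) * (w : G) := by group
            _ = 1 := by rw [hii, mul_one, inv_mul_cancel]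
        have hwe : (w : G)⁻¹ * e⁻¹ = e⁻¹ * (w : G)⁻¹ :=
          ((show Commute (w : G) e from mem_centralizer_singleton_iff.mp w.2).inv_inv).eq
        have hte : t * e * t⁻¹ = e⁻¹ := by
          calc t * e * t⁻¹ = (w : G)⁻¹ * (i * e * i⁻¹) * (w : G) := by rw [ht]; group
            _ = e⁻¹ * (w : G)⁻¹ * (w : G) := by rw [hiinv, hiE, hwe]
            _ = e⁻¹ := by rw [inv_mul_cancel_right]
        have hcm : e * t * e⁻¹ * t⁻¹ ∈ D := mul_mem
          ((mem_normalizer_iff.mp (E.norm (hKM b he)) t).mp (E.invol_mem t htM ht2))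
          (inv_mem (E.invol_mem t htM ht2))
        have hee : e * t * e⁻¹ * t⁻¹ = e * e := by
          calc e * t * e⁻¹ * t⁻¹ = e * (t * e * t⁻¹)⁻¹ := by group
            _ = e * e := by rw [hte, inv_inv]
        rw [hee] at hcm
        have h1 := h.free hq hq2 heq' E.two hcm (by group)
        have h2 : q ∣ 2 := heq' ▸ orderOf_dvd_of_pow_eq_one (by rw [pow_two]; exact h1)
        exact hq2 ((Nat.prime_dvd_prime_iff_eq hq Nat.prime_two).mp h2)
      have hsub : orbit A o ∪ orbit A b ⊆ F := by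
        rintro f (⟨a, rfl⟩ | ⟨a, rfl⟩)
        · exact hAF a a.2 o hoF
        · exact hAF a a.2 b hbF
      have hob : (orbit A b).ncard = (orbit A o).ncard := by
        have hinj : Function.Injective (fun f : G ⧸ M => i • f) := MulAction.injective i
        have hconjsmul : ∀ (a : A) (f : G ⧸ M), i • (a • f) = (⟨i * (a : G) * i, hAi _ a.2⟩ : A) • (i • f) := by
          intro a f
          show i • ((a : G) • f) = (i * (a : G) * i) • (i • f)
          rw [← mul_smul, ← mul_smul, show i * (a : G) * i * i = i * (a : G) * (i * i) by group, hii, mul_one]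
        have : orbit A b = (fun f : G ⧸ M => i • f) '' orbit A o := by
          ext f
          constructor
          · rintro ⟨a, rfl⟩
            refine ⟨(⟨i * (a : G) * i, hAi _ a.2⟩ : A) • o, ⟨_, rfl⟩, ?_⟩
            show i • ((⟨i * (a : G) * i, hAi _ a.2⟩ : A) • o) = a • b
            rw [hconjsmul, hio]
            congr 1
            refine Subtype.ext ?_
            show i * (i * (a : G) * i) * i = a
            rw [show i * (i * (a : G) * i) * i = (i * i) * (a : G) * (i * i) by group, hii, one_mul, mul_one]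
          · rintro ⟨_, ⟨a, rfl⟩, rfl⟩
            show i • (a • o) ∈ orbit A b
            rw [hconjsmul, hio]
            exact ⟨_, rfl⟩
        rw [this, Set.ncard_image_of_injective _ hinj]
      calc 2 * r = (orbit A o ∪ orbit A b).ncard := by
            rw [Set.ncard_union_eq hdisj, hob, hr, Nat.card_coe_set_eq, two_mul]
        _ ≤ Nat.card F := by rw [Nat.card_coe_set_eq]; exact Set.ncard_le_ncard hsub
    have h3 : 3 ≤ Nat.card F := by
      rw [Nat.card_coe_set_eq]
      refine le_trans ?_ (Set.ncard_le_ncard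
        (show ({o, b, c} : Set (G ⧸ M)) ⊆ F by
          rintro f (rfl | rfl | rfl)
          · exact hoF
          · exact hbF
          · exact hcF))
      rw [Set.ncard_eq_three.mpr ⟨o, b, c, hb.symm, hc.symm, hbc, rfl⟩]
    have h4 : Nat.card F - 1 ≤ r := Nat.le_of_mul_le_mul_right
      (by rw [Nat.mul_comm r q]; exact hup.trans hAr) (by omega)
    omega
  -- transitivity of `M` on the other points
  set Q : Subgroup M := (zpowers y).subgroupOf M with hQdef
  have hQcard : Nat.card Q = q := by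
    rw [Nat.card_congr (subgroupOfEquivOfLe (zpowers_le.mpr E.data.mem)).toEquiv, Nat.card_zpowers, E.data.order]
  have hQi : ¬ q ∣ Q.index := by
    have e := Q.card_mul_index
    rw [hQcard, E.card_M, mul_comm (Nat.card D)] at e
    rw [Nat.eq_of_mul_eq_mul_left (by omega) e]
    obtain ⟨j, hj⟩ := IsPGroup.iff_card.mp E.two
    rw [hj]
    intro hd
    exact hq2 ((Nat.prime_dvd_prime_iff_eq hq Nat.prime_two).mp (hq.dvd_of_dvd_pow hd))
  let Qs : Sylow q M := (IsPGroup.of_card (n := 1) (by rw [hQcard, pow_one])).toSylow hQi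
  have hconj : ∀ b : G ⧸ M, b ≠ o → ∃ d : D, pairStab o b = (zpowers y).map (MulAut.conj (d : G)).toMonoidHom := by
    intro b hb
    obtain ⟨P, hP⟩ := (IsPGroup.of_card (p := q) (G := ↥((pairStab o b).subgroupOf M)) (n := 1) (by
      rw [Nat.card_congr (subgroupOfEquivOfLe (hKM b)).toEquiv, hcard b hb, pow_one])).exists_le_sylow
    obtain ⟨m, hm⟩ := MulAction.exists_smul_eq M Qs P
    obtain ⟨d, hd, w, hw, hme⟩ := E.split (m : G) m.2
    refine ⟨⟨d, hd⟩, ?_⟩
    refine eq_of_le_of_card_ge (fun k hk => ?_) (by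
      rw [card_map_of_injective (MulAut.conj d).injective, Nat.card_zpowers, E.data.order, hcard b hb])
    have h1 : (⟨k, hKM b hk⟩ : M) ∈ (P : Subgroup M) := hP hk
    rw [← hm, Sylow.coe_subgroup_smul] at h1
    obtain ⟨v, hv, hve⟩ := h1
    refine ⟨w * (v : G) * w⁻¹, mul_mem (mul_mem hw hv) (inv_mem hw), ?_⟩
    have e : (m : G) * (v : G) * (m : G)⁻¹ = k := congrArg Subtype.val hve
    show d * (w * (v : G) * w⁻¹) * d⁻¹ = k
    rw [← e, hme]
    group
  have hle : Nat.card {b : G ⧸ M // b ≠ o} ≤ Nat.card D := by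
    refine Nat.card_le_card_of_injective (fun b => (hconj b.1 b.2).choose) ?_
    intro b c hbc
    refine Subtype.ext (hfix b.1 c.1 b.2 c.2 ?_)
    have h1 := (hconj b.1 b.2).choose_spec
    have h2 := (hconj c.1 c.2).choose_spec
    simp only at hbc
    rw [h1, h2, hbc]
  have hMtrans : ∀ b c : G ⧸ M, b ≠ o → c ≠ o → ∃ m : G, m • o = o ∧ m • b = c := by
    intro b c hb hc
    obtain ⟨g, rfl⟩ := hsurj b
    have hgM : g ∉ M := fun hg => hb ((hmemM g).mpr hg)
    let f : D → {b : G ⧸ M // b ≠ o} := fun d => ⟨(d : G) • g • o, fun e => hb (by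
      have hd : (d : G)⁻¹ • o = o := (hmemM _).mpr (inv_mem (E.le d.2))
      rw [eq_inv_smul_iff.mpr e, hd])⟩
    have hf : Function.Injective f := by
      intro d d' hdd
      have e : (d : G) • g • o = (d' : G) • g • o := congrArg Subtype.val hdd
      have hmem : (d' : G)⁻¹ * d ∈ D := mul_mem (inv_mem d'.2) d.2
      have h1 := hodd g hgM _ (mem_pairStab.mpr ⟨(hmemM _).mpr (E.le hmem),
        by rw [mul_smul, e, inv_smul_smul]⟩) hmem
      exact Subtype.ext (inv_mul_eq_one.mp h1).symm
    have hsur : Function.Surjective f := ((Nat.bijective_iff_injective_and_card f).mpr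
      ⟨hf, le_antisymm (Nat.card_le_card_of_injective f hf) hle⟩).2
    obtain ⟨d, hd⟩ := hsur ⟨c, hc⟩
    exact ⟨d, (hmemM _).mpr (E.le d.2), congrArg Subtype.val hd⟩
  have hZ : IsZassenhausGroup G (G ⧸ M) := by
    refine ⟨⟨fun {g g'} hgg => ?_⟩, ?_, ?_, ?_, ?_⟩
    · have hcore : M.normalCore = ⊥ := by
        rcases (inferInstance : M.normalCore.Normal).eq_bot_or_eq_top with e | e
        · exact e
        · exact absurd (eq_top_iff.mpr (e ▸ M.normalCore_le)) E.embedded.1
      have hmem : g'⁻¹ * g ∈ M.normalCore := by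
        intro c
        have e := hgg ((c : G ⧸ M) : G ⧸ M)
        have e2 := hgg (((c⁻¹ : G) : G ⧸ M))
        have e3 : ((g * c⁻¹ : G) : G ⧸ M) = ((g' * c⁻¹ : G) : G ⧸ M) := e2
        have := QuotientGroup.eq.mp e3.symm
        simpa [mul_assoc] using this
      rw [hcore, mem_bot, inv_mul_eq_one] at hmem
      exact hmem.symm
    · rw [is_two_pretransitive_iff]
      intro a b c d hab hcd
      obtain ⟨g₁, hg₁⟩ := hsurj a
      obtain ⟨g₂, hg₂⟩ := hsurj c
      have hb' : g₁⁻¹ • b ≠ o := fun e => hab (by rw [← hg₁, ← e, smul_inv_smul])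
      have hd' : g₂⁻¹ • d ≠ o := fun e => hcd (by rw [← hg₂, ← e, smul_inv_smul])
      obtain ⟨m, hm1, hm2⟩ := hMtrans _ _ hb' hd'
      refine ⟨g₂ * m * g₁⁻¹, ?_, ?_⟩
      · rw [← hg₁, mul_smul, inv_smul_smul, mul_smul, hm1, hg₂]
      · rw [mul_smul, mul_smul, hm2, smul_inv_smul]
    · intro g a b c hab hbc hac ha hb hc
      obtain ⟨g₁, hg₁⟩ := hsurj a
      by_contra hne
      have hb' : g₁⁻¹ • b ≠ o := fun e => hab (by rw [← hg₁, ← e, smul_inv_smul])
      have hc' : g₁⁻¹ • c ≠ o := fun e => hac (by rw [← hg₁, ← e, smul_inv_smul])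
      set k := g₁⁻¹ * g * g₁ with hk
      have hk1 : k ≠ 1 := fun e => hne (by
        calc g = g₁ * k * g₁⁻¹ := by rw [hk]; group
          _ = 1 := by rw [e]; group)
      have hko : k • o = o := by rw [hk, mul_smul, mul_smul, hg₁, ha, ← hg₁, inv_smul_smul]
      have hKb : k ∈ pairStab o (g₁⁻¹ • b) :=
        mem_pairStab.mpr ⟨hko, by rw [hk, mul_smul, mul_smul, smul_inv_smul, hb]⟩
      have hKc : k ∈ pairStab o (g₁⁻¹ • c) :=
        mem_pairStab.mpr ⟨hko, by rw [hk, mul_smul, mul_smul, smul_inv_smul, hc]⟩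
      have hone : ∀ f : G ⧸ M, f ≠ o → k ∈ pairStab o f → zpowers k = pairStab o f := by
        intro f hf hkf
        refine eq_of_le_of_card_ge (zpowers_le.mpr hkf) ?_
        rw [hcard f hf, Nat.card_zpowers]
        have hd : orderOf k ∣ q := by
          rw [← hcard f hf, ← Nat.card_zpowers]; exact card_dvd_of_le (zpowers_le.mpr hkf)
        exact (((Nat.dvd_prime hq).mp hd).resolve_left fun e => hk1 (orderOf_eq_one_iff.mp e)).ge
      have := hfix _ _ hb' hc' ((hone _ hb' hKb).symm.trans (hone _ hc' hKc))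
      exact hbc (by rw [← smul_inv_smul g₁ b, this, smul_inv_smul])
    · obtain ⟨g, hg⟩ : ∃ g : G, g ∉ M := ⟨u, huM⟩
      have hgo : g • o ≠ o := fun e => hg ((hmemM g).mp e)
      obtain ⟨⟨k, hk⟩, hk1⟩ : ∃ k : ↥(pairStab o (g • o)), k ≠ 1 :=
        (pairStab o (g • o)).ne_bot_iff_exists_ne_one.mp fun e => by
          have := hcard _ hgo
          rw [e, card_bot] at this; omega
      exact ⟨k, fun e => hk1 (Subtype.ext e), o, g • o, hgo.symm, (mem_pairStab.mp hk).1, (mem_pairStab.mp hk).2⟩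
    · intro N hN htr
      refine ⟨o, ?_⟩
      rcases hN.eq_bot_or_eq_top with rfl | rfl
      · exfalso
        obtain ⟨g, hg⟩ : ∃ g : G, g ∉ M := ⟨u, huM⟩
        obtain ⟨n, hn⟩ := htr.exists_smul_eq o (g • o)
        have hn1 : (n : G) = 1 := mem_bot.mp n.2
        have : (n : G) • o = g • o := hn
        rw [hn1, one_smul] at this
        exact hg ((hmemM g).mp this.symm)
      · intro e
        have hzs : (⟨z, mem_top z⟩ : (⊤ : Subgroup G)) ∈ stabilizer (⊤ : Subgroup G) o :=
          (hmemM z).mpr (E.le E.z_mem)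
        have hzb : (⟨z, mem_top z⟩ : (⊤ : Subgroup G)) ∈ (⊥ : Subgroup (⊤ : Subgroup G)) := by
          convert hzs using 1
          exact e.symm
        have hz1 : z = 1 := congrArg Subtype.val (mem_bot.mp hzb)
        have := E.z_ord
        rw [hz1, orderOf_one] at this
        omega
  rcases Cfsg.Agent.S0340.result hZ with hF | hSz
  · exact hF
  · exfalso
    obtain ⟨-, m, -, hm⟩ := hSz
    haveI : Fact (Nat.Prime 5) := ⟨by norm_num⟩
    have h5 : 5 ∣ (2 ^ (2 * m + 1)) ^ 2 + 1 := by
      rw [← pow_mul, show (2 * m + 1) * 2 = 4 * m + 2 by ring, pow_add, pow_mul, Nat.dvd_iff_mod_eq_zero,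
        Nat.add_mod, Nat.mul_mod, Nat.pow_mod]
      norm_num
    obtain ⟨g, hg⟩ := exists_prime_orderOf_dvd_card' (G := G) 5 (by
      rw [hm]; exact (h5.mul_left _).mul_right _)
    exact h.not_five g hg

end EmbeddedData

end CfsgLib.SevenSpectrum
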