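import Mathlib
import Cfsg.Agent.Lib.SevenSpectrum.SFour
import Cfsg.Agent.Lib.SevenSpectrum.Zass
import Cfsg.Agent.Lib.SevenSpectrum.Field
import Cfsg.Agent.Lib.SmallGroups.Basic
import Cfsg.Agent.S0205
import Cfsg.Agent.S3992
import Cfsg.Agent.Lib.Classical.Dickson.PSLMap

/-!
# Nonsolvable groups with element orders powers of two or primes different from five are `PSL₂(7)`
-/

set_option autoImplicit false

namespace CfsgLib.SevenSpectrum

open Subgroup Cfsg

universe u

variable {G : Type u} [Group G] [Finite G]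

theorem not_comm_of_not_solvable (h : ¬ Group.IsSolvable G) : ¬ IsMulCommutative G := fun hc =>
  h (Group.isSolvable_of_comm fun a b => hc.is_comm.comm a b)

theorem not_solvable_of_card_168 [IsSimpleGroup G] (h168 : Nat.card G = 168) : ¬ IsMulCommutative G :=
  SmallGroups.not_isMulCommutative_of_not_prime (by rw [h168]; norm_num)

theorem card_normalizer_seven [IsSimpleGroup G] (h168 : Nat.card G = 168) (P : Sylow 7 G) :
    Nat.card (normalizer ((P : Subgroup G) : Set G)) = 21 ∧ Nat.card (P : Subgroup G) = 7 := by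
  haveI : Fact (Nat.Prime 7) := ⟨by norm_num⟩
  have hG7 : Nat.card G = 7 ^ 1 * 24 := by omega
  refine ⟨?_, by simpa using SmallGroups.card_sylow_eq hG7 (by norm_num) P⟩
  have h1 := SmallGroups.card_sylow_mem_filter (G := G) (p := 7) hG7 (by norm_num)
  have h2 := SmallGroups.card_sylow_ne_one (G := G) (p := 7) (not_solvable_of_card_168 h168)
    (by rw [h168]; norm_num)
  have h3 : (Finset.range (24 + 1)).filter (fun d => 24 % d = 0 ∧ d % 7 = 1) = {1, 8} := by decide
  rw [h3] at h1
  simp only [Finset.mem_insert, Finset.mem_singleton] at h1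
  have h4 := SmallGroups.card_sylow_mul_card_normalizer P
  rw [h1.resolve_left h2, h168] at h4
  omega

theorem card_normalizer_three [IsSimpleGroup G] (h168 : Nat.card G = 168) (P : Sylow 3 G) :
    2 ∣ Nat.card (normalizer ((P : Subgroup G) : Set G)) ∧ Nat.card (P : Subgroup G) = 3 := by
  haveI : Fact (Nat.Prime 3) := ⟨by norm_num⟩
  have hG3 : Nat.card G = 3 ^ 1 * 56 := by omega
  refine ⟨?_, by simpa using SmallGroups.card_sylow_eq hG3 (by norm_num) P⟩
  have h1 := SmallGroups.card_sylow_mem_filter (G := G) (p := 3) hG3 (by norm_num)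
  have h3 : (Finset.range (56 + 1)).filter (fun d => 56 % d = 0 ∧ d % 3 = 1) = {1, 4, 7, 28} := by decide
  rw [h3] at h1
  simp only [Finset.mem_insert, Finset.mem_singleton] at h1
  have h4 := SmallGroups.card_sylow_mul_card_normalizer P
  rw [h168] at h4
  rcases h1 with e | e | e | e <;> rw [e] at h4 <;> omega

/-- The index of a normal simple subgroup of order 168 is a power of `p`, for `(p, s) = (7, 3), (3, 2)`. -/
theorem index_prime_eq (h : Spec G) (N : Subgroup G) [N.Normal] {p s : ℕ} [Fact p.Prime] [Fact s.Prime]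
    (hps : (p = 7 ∧ s = 3) ∨ (p = 3 ∧ s = 2)) (P : Sylow p N) (hP : Nat.card (P : Subgroup N) = p)
    (hs : s ∣ Nat.card (normalizer ((P : Subgroup N) : Set N))) {r : ℕ} (hr : r.Prime) (hd : r ∣ N.index) :
    r = p := by
  classical
  have hp2 : p ≠ 2 := by omega
  have hp : p.Prime := Fact.out
  set P' := (P : Subgroup N).map N.subtype with hP'
  have hP'c : Nat.card P' = p := by rw [hP', card_map_of_injective N.subtype_injective, hP]
  haveI : IsCyclic P' := isCyclic_of_prime_card hP'c
  obtain ⟨⟨y, hy⟩, hygen⟩ := IsCyclic.exists_generator (α := P')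
  have hyo : orderOf y = p := by
    have := orderOf_eq_card_of_forall_mem_zpowers hygen
    rwa [Subgroup.orderOf_mk, hP'c] at this
  set X := normalizer (P' : Set G) with hX
  set φ := Subgroup.normalizerMonoidHom P' with hφ
  have hker : ∀ g : X, φ g = 1 → (g : G) * y = y * (g : G) := fun g hg => by
    have h0 := DFunLike.congr_fun hg (⟨y, hy⟩ : P')
    exact mul_inv_eq_iff_eq_mul.mp (congrArg Subtype.val h0)
  have haut : IsCyclic φ.range ∧ Nat.card φ.range ∣ p - 1 := by
    let e := IsCyclic.mulAutMulEquiv P'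
    have h1 : Nat.card (ZMod (Nat.card P'))ˣ = p - 1 := by
      rw [hP'c, Nat.card_eq_fintype_card, ZMod.card_units p]
    haveI : IsCyclic (ZMod (Nat.card P'))ˣ := by
      rw [hP'c]; infer_instance
    haveI : IsCyclic (MulAut P') := e.isCyclic.mpr inferInstance
    exact ⟨inferInstance, (card_subgroup_dvd_card φ.range).trans
      (by rw [Nat.card_congr e.toEquiv, h1])⟩
  obtain ⟨z₀, hz₀⟩ := exists_prime_orderOf_dvd_card' (G := normalizer ((P : Subgroup N) : Set N)) s hs
  set z : G := ((z₀ : N) : G) with hz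
  have hzo : orderOf z = s := by rw [hz, Subgroup.orderOf_coe, Subgroup.orderOf_coe, hz₀]
  have hzX : z ∈ X := by
    refine LocalEven.mem_normalizer_of_conj_le ?_
    rintro _ ⟨_, ⟨w, hw, rfl⟩, rfl⟩
    exact ⟨(z₀ : N) * w * (z₀ : N)⁻¹, (mem_normalizer_iff.mp z₀.2 w).mp hw, rfl⟩
  have hsne : s ≠ p := by omega
  have hzφ : φ ⟨z, hzX⟩ ≠ 1 := fun e =>
    h.not_commute hp (Fact.out : s.Prime) hp2 hsne.symm hyo hzo (hker _ e).symm
  have hzord : orderOf (φ ⟨z, hzX⟩) = s := by
    have h1 : orderOf (φ ⟨z, hzX⟩) ∣ s := by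
      rw [← hzo, ← Subgroup.orderOf_mk z hzX]; exact orderOf_map_dvd φ _
    exact ((Nat.dvd_prime (Fact.out : s.Prime)).mp h1).resolve_left fun e => hzφ (orderOf_eq_one_iff.mp e)
  haveI := haut.1
  obtain ⟨⟨c, hc⟩, hcgen⟩ := IsCyclic.exists_generator (α := φ.range)
  have hcard : orderOf c = Nat.card φ.range := by
    rw [← Subgroup.orderOf_mk c hc, orderOf_eq_card_of_forall_mem_zpowers hcgen]
  have hrange : Nat.card φ.range = s := by
    have h1 : s ∣ Nat.card φ.range := by
      rw [← hzord, ← Nat.card_zpowers]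
      exact card_dvd_of_le (zpowers_le.mpr ⟨_, rfl⟩)
    have h2 := haut.2
    have h3 : Nat.card φ.range ≠ 6 := by
      intro h6
      obtain ⟨g, hg⟩ := hc
      have hdvd : (6 : ℕ) ∣ orderOf (g : G) := by
        rw [← h6, ← hcard, ← hg, Subgroup.orderOf_coe]; exact orderOf_map_dvd φ g
      have e := h.order_eq Nat.prime_three (by norm_num) ((show 3 ∣ 6 by norm_num).trans hdvd)
      rw [e] at hdvd
      exact absurd (Nat.le_of_dvd (by norm_num) hdvd) (by norm_num)
    rcases hps with ⟨rfl, rfl⟩ | ⟨rfl, rfl⟩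
    · have := Nat.le_of_dvd (by norm_num) h2
      interval_cases Nat.card φ.range <;> omega
    · have := Nat.le_of_dvd (by norm_num) h2
      interval_cases Nat.card φ.range <;> omega
  -- reduce into the centraliser
  have hred : ∀ g ∈ X, ∃ n ∈ N, (g * n) * y = y * (g * n) := by
    intro g hg
    have hle : zpowers (φ ⟨z, hzX⟩) = φ.range := eq_of_le_of_card_ge (zpowers_le.mpr ⟨_, rfl⟩)
      (by rw [hrange, Nat.card_zpowers, hzord])
    obtain ⟨i, hi⟩ := mem_zpowers_iff.mp (hle.ge ⟨⟨g, hg⟩, rfl⟩ : φ ⟨g, hg⟩ ∈ zpowers (φ ⟨z, hzX⟩))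
    refine ⟨(z ^ i)⁻¹, inv_mem (zpow_mem (z₀ : N).2 i), ?_⟩
    have h1 : φ (⟨g, hg⟩ * (⟨z, hzX⟩ ^ i)⁻¹) = 1 := by rw [map_mul, map_inv, map_zpow, hi, mul_inv_cancel]
    simpa using hker _ h1
  haveI : Fact r.Prime := ⟨hr⟩
  rw [index_eq_card] at hd
  obtain ⟨w, hw⟩ := exists_prime_orderOf_dvd_card' (G := G ⧸ N) r hd
  obtain ⟨g, rfl⟩ := QuotientGroup.mk'_surjective N w
  have hsup : X ⊔ N = ⊤ := Sylow.normalizer_sup_eq_top P
  have hg : g ∈ (↑(X ⊔ N) : Set G) := by rw [hsup]; exact Set.mem_univ g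
  rw [mul_normal] at hg
  obtain ⟨a, ha, b, hb, rfl⟩ := hg
  obtain ⟨n, hn, hcomm⟩ := hred a ha
  have himg : orderOf (QuotientGroup.mk' N (a * n)) = r := by
    rw [map_mul, show QuotientGroup.mk' N n = 1 from (QuotientGroup.eq_one_iff n).mpr hn, mul_one]
    rwa [map_mul, show QuotientGroup.mk' N b = 1 from (QuotientGroup.eq_one_iff b).mpr hb, mul_one] at hw
  have hdr : r ∣ orderOf (a * n) := by rw [← himg]; exact orderOf_map_dvd _ _
  by_contra hne
  have h1 : r ∣ orderOf ((a * n) ^ (orderOf (a * n) / r)) := by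
    rw [orderOf_pow_orderOf_div (orderOf_pos _).ne' hdr]
  exact h.not_commute hp hr hp2 (Ne.symm hne) hyo (orderOf_pow_orderOf_div (orderOf_pos _).ne' hdr)
    ((show Commute y (a * n) from hcomm.symm).pow_right _).eq

/-- No proper normal subgroup of order 168 which is simple. -/
theorem eq_top_of_simple_168 (h : Spec G) (N : Subgroup G) [N.Normal] [IsSimpleGroup N]
    (h168 : Nat.card N = 168) : N = ⊤ := by
  haveI : Fact (Nat.Prime 7) := ⟨by norm_num⟩
  haveI : Fact (Nat.Prime 3) := ⟨by norm_num⟩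
  haveI : Fact (Nat.Prime 2) := ⟨Nat.prime_two⟩
  obtain ⟨P⟩ := (inferInstance : Nonempty (Sylow 7 N))
  obtain ⟨Q⟩ := (inferInstance : Nonempty (Sylow 3 N))
  obtain ⟨hP1, hP2⟩ := card_normalizer_seven h168 P
  obtain ⟨hQ1, hQ2⟩ := card_normalizer_three h168 Q
  by_contra hne
  have hi : N.index ≠ 1 := fun e => hne (index_eq_one.mp e)
  obtain ⟨r, hr, hd⟩ := Nat.exists_prime_and_dvd hi
  have e7 := index_prime_eq h N (p := 7) (s := 3) (Or.inl ⟨rfl, rfl⟩) P hP2 (by rw [hP1]; norm_num) hr hd
  have e3 := index_prime_eq h N (p := 3) (s := 2) (Or.inr ⟨rfl, rfl⟩) Q hQ2 hQ1 hr hd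
  omega

/-- A nontrivial solvable normal subgroup has no quotient simple of order 168. -/
theorem no_radical (h : Spec G) (R : Subgroup G) [R.Normal] {p : ℕ} [Fact p.Prime] (hR : IsPGroup p R)
    (hne : R ≠ ⊥) [IsSimpleGroup (G ⧸ R)] (h168 : Nat.card (G ⧸ R) = 168) : False := by
  classical
  haveI : Fact (Nat.Prime 7) := ⟨by norm_num⟩
  haveI : Fact (Nat.Prime 3) := ⟨by norm_num⟩
  haveI : Fact (Nat.Prime 2) := ⟨Nat.prime_two⟩
  set π := QuotientGroup.mk' R with hπ
  have hπ1 : ∀ g : G, π g = 1 ↔ g ∈ R := fun g => QuotientGroup.eq_one_iff g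
  by_cases hp : p = 2
  · subst hp
    obtain ⟨Pq⟩ := (inferInstance : Nonempty (Sylow 7 (G ⧸ R)))
    obtain ⟨hN, hP⟩ := card_normalizer_seven h168 Pq
    set L := (normalizer ((Pq : Subgroup (G ⧸ R)) : Set (G ⧸ R))).comap π with hL
    set K := ((Pq : Subgroup (G ⧸ R)).comap π).subgroupOf L with hK
    have hPL : (Pq : Subgroup (G ⧸ R)).comap π ≤ L := comap_mono le_normalizer
    haveI : K.Normal := by
      refine normal_subgroupOf_of_le_normalizer fun g hg => LocalEven.mem_normalizer_of_conj_le ?_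
      rintro _ ⟨w, hw, rfl⟩
      show π (g * w * g⁻¹) ∈ (Pq : Subgroup (G ⧸ R))
      rw [map_mul, map_mul, map_inv]
      exact (mem_normalizer_iff.mp hg _).mp hw
    obtain ⟨P⟩ := (inferInstance : Nonempty (Sylow 7 K))
    have hcK : Nat.card K = Nat.card R * 7 := by
      rw [Nat.card_congr (subgroupOfEquivOfLe hPL).toEquiv]
      have h1 := LocalEven.JComp.card_eq_card_map_mul π ((Pq : Subgroup (G ⧸ R)).comap π)
      rw [map_comap_eq_self_of_surjective (QuotientGroup.mk'_surjective R), hP, QuotientGroup.ker_mk',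
        inf_eq_right.mpr (fun r hr => mem_comap.mpr (by rw [(hπ1 r).mpr hr]; exact one_mem _)), mul_comm] at h1
      exact h1
    have hcL : Nat.card L = Nat.card R * 21 := by
      have h1 := LocalEven.JComp.card_eq_card_map_mul π L
      rw [map_comap_eq_self_of_surjective (QuotientGroup.mk'_surjective R), hN, QuotientGroup.ker_mk',
        inf_eq_right.mpr (fun r hr => mem_comap.mpr (by rw [(hπ1 r).mpr hr]; exact one_mem _)), mul_comm] at h1
      exact h1
    have hKi : 3 ∣ K.index := by
      have e := K.card_mul_index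
      rw [hcK, hcL, mul_assoc] at e
      have := Nat.eq_of_mul_eq_mul_left Nat.card_pos e
      omega
    obtain ⟨⟨y, hyL⟩, hyn, hy3⟩ := SixSpectrum.exists_prime_order_normalizing K P hKi
    rw [Subgroup.orderOf_mk] at hy3
    set P' := ((P : Subgroup K).map K.subtype).map L.subtype with hP'
    have hyn' : y ∈ normalizer (P' : Set G) := by
      refine LocalEven.mem_normalizer_of_conj_le ?_
      rintro _ ⟨_, ⟨w, hw, rfl⟩, rfl⟩
      exact ⟨⟨y, hyL⟩ * w * (⟨y, hyL⟩ : L)⁻¹, (mem_normalizer_iff.mp hyn w).mp hw, rfl⟩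
    have hP'7 : Nat.card P' = 7 := by
      rw [hP', card_map_of_injective L.subtype_injective, card_map_of_injective K.subtype_injective,
        P.card_eq_multiplicity, hcK]
      obtain ⟨j, hj⟩ := IsPGroup.iff_card.mp hR
      rw [hj, Nat.factorization_mul (by positivity) (by norm_num), Nat.Prime.factorization_pow Nat.prime_two,
        Nat.Prime.factorization (by norm_num : Nat.Prime 7)]
      simp
    haveI : IsCyclic P' := isCyclic_of_prime_card hP'7
    obtain ⟨⟨e, he⟩, hegen⟩ := IsCyclic.exists_generator (α := P')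
    have heo : orderOf e = 7 := by
      have := orderOf_eq_card_of_forall_mem_zpowers hegen
      rwa [Subgroup.orderOf_mk, hP'7] at this
    have hPe : P' = zpowers e := (eq_of_le_of_card_ge (zpowers_le.mpr he)
      (by rw [hP'7, Nat.card_zpowers, heo])).symm
    have hRn : ∀ g : G, g ∈ normalizer (R : Set G) := fun g => by rw [normalizer_eq_top (H := R)]; exact mem_top g
    rw [hPe] at hyn'
    have := h.no_normalizing (q := 7) (r := 3) (by norm_num) (by norm_num) (by norm_num) (by norm_num) heo hy3 hyn'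
      hR hne (hRn e) (hRn y)
    have hd : orderOf y ∣ orderOf e := by
      rw [← Nat.card_zpowers, ← Nat.card_zpowers]; exact card_dvd_of_le (zpowers_le.mpr this)
    rw [heo, hy3] at hd
    norm_num at hd
  · -- `p` odd
    obtain ⟨w, hw⟩ := exists_prime_orderOf_dvd_card' (G := G ⧸ R) 2 (by rw [h168]; norm_num)
    obtain ⟨g, rfl⟩ := QuotientGroup.mk'_surjective R w
    have hdg : 2 ∣ orderOf g := hw ▸ orderOf_map_dvd _ g
    set a := g ^ (orderOf g / 2) with ha
    have ha2 : orderOf a = 2 := orderOf_pow_orderOf_div (orderOf_pos g).ne' hdg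
    have haR : a ∉ R := by
      intro hmem
      have hd2 : 2 ∣ Nat.card R := by
        rw [← ha2, ← Nat.card_zpowers]; exact card_dvd_of_le (zpowers_le.mpr hmem)
      obtain ⟨j, hj⟩ := IsPGroup.iff_card.mp hR
      rw [hj] at hd2
      exact hp ((Nat.prime_dvd_prime_iff_eq Nat.prime_two (Fact.out : p.Prime)).mp
        (Nat.prime_two.dvd_of_dvd_pow hd2)).symm
    have hfreeR : ∀ b : G, orderOf b = 2 → ∀ r ∈ R, b * r = r * b → r = 1 := by
      intro b hb r hr hc
      by_contra hr1
      obtain ⟨j, hj⟩ := IsPGroup.iff_orderOf.mp hR ⟨r, hr⟩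
      rw [Subgroup.orderOf_mk] at hj
      rcases j with - | j
      · exact hr1 (orderOf_eq_one_iff.mp (by simpa using hj))
      · exact h.no_commute_involution (Fact.out : p.Prime) hp
          (h.order_eq (Fact.out : p.Prime) hp (hj ▸ dvd_pow_self p (Nat.succ_ne_zero j))) hb hc.symm
    have hinv : ∀ b : G, orderOf b = 2 → ∀ r ∈ R, b * r * b = r⁻¹ := by
      intro b hb
      have hbb : b * b = 1 := by rw [← pow_two, ← hb]; exact pow_orderOf_eq_one b
      have hbinv : b⁻¹ = b := inv_eq_of_mul_eq_one_right hbb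
      have hconjR : ∀ r ∈ R, b * r * b ∈ R := fun r hr => by
        have := (inferInstance : R.Normal).conj_mem r hr b
        rwa [hbinv] at this
      have hinj : Function.Injective (fun r : R => (⟨(r : G)⁻¹ * (b * r * b),
          mul_mem (inv_mem r.2) (hconjR _ r.2)⟩ : R)) := by
        intro r r' hrr
        have e' : (r : G)⁻¹ * (b * r * b) = (r' : G)⁻¹ * (b * r' * b) := congrArg Subtype.val hrr
        have hc' : b * ((r' : G) * (r : G)⁻¹) = (r' : G) * (r : G)⁻¹ * b := by
          calc b * ((r' : G) * (r : G)⁻¹) = b * r' * b * (b⁻¹ * (r : G)⁻¹ * b⁻¹) * b := by group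
            _ = (r' : G) * ((r' : G)⁻¹ * (b * r' * b)) * (b⁻¹ * (r : G)⁻¹ * b⁻¹) * b := by group
            _ = (r' : G) * ((r : G)⁻¹ * (b * r * b)) * (b⁻¹ * (r : G)⁻¹ * b⁻¹) * b := by rw [e']
            _ = (r' : G) * (r : G)⁻¹ * b := by group
        exact Subtype.ext (mul_inv_eq_one.mp (hfreeR b hb _ (mul_mem r'.2 (inv_mem r.2)) hc')).symm
      intro r hr
      obtain ⟨k, hk⟩ := Finite.surjective_of_injective hinj ⟨r, hr⟩
      have hk' : r = (k : G)⁻¹ * (b * k * b) := (congrArg Subtype.val hk).symm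
      calc b * r * b = b * (k : G)⁻¹ * b * k * (b * b) := by rw [hk']; group
        _ = b⁻¹ * (k : G)⁻¹ * b⁻¹ * k := by rw [hbb, mul_one, hbinv]
        _ = r⁻¹ := by rw [hk']; group
    set C := centralizer (R : Set G) with hC
    have hCn : C.Normal := ⟨fun c hc x => mem_centralizer_iff.mpr fun r hr => by
      have h1 := mem_centralizer_iff.mp hc (x⁻¹ * r * x) (by
        have := (inferInstance : R.Normal).conj_mem r hr x⁻¹
        rwa [inv_inv] at this)
      calc r * (x * c * x⁻¹) = x * (x⁻¹ * r * x * c) * x⁻¹ := by group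
        _ = x * (c * (x⁻¹ * r * x)) * x⁻¹ := by rw [h1]
        _ = x * c * x⁻¹ * r := by group⟩
    obtain ⟨r₀, hr₀⟩ := R.ne_bot_iff_exists_ne_one.mp hne
    have haa : a * a = 1 := by rw [← pow_two, ← ha2]; exact pow_orderOf_eq_one a
    have hcase : (C.map π) = ⊥ := by
      haveI := hCn.map π (QuotientGroup.mk'_surjective R)
      refine ((inferInstance : (C.map π).Normal).eq_bot_or_eq_top).resolve_right fun htop => ?_
      obtain ⟨c, hc, hce⟩ := htop.ge (mem_top (π a))
      have hk : c⁻¹ * a ∈ R := (hπ1 _).mp (by rw [map_mul, map_inv, hce, inv_mul_cancel])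
      have hRcomm : ∀ s ∈ R, s * (r₀ : G) = r₀ * s := by
        intro s hs
        have e1 := hinv a ha2 _ (mul_mem hs r₀.2)
        have e2 : a * (s * (r₀ : G)) * a = s⁻¹ * (r₀ : G)⁻¹ := by
          calc a * (s * (r₀ : G)) * a = a * s * (a * a) * r₀ * a := by rw [haa]; group
            _ = (a * s * a) * (a * r₀ * a) := by group
            _ = s⁻¹ * (r₀ : G)⁻¹ := by rw [hinv a ha2 s hs, hinv a ha2 _ r₀.2]
        rw [e2] at e1
        have e3 := congrArg (fun g : G => g⁻¹) e1
        simp only [mul_inv_rev, inv_inv] at e3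
        exact e3.symm
      have hfix : a * (r₀ : G) = r₀ * a := by
        have : a = c * (c⁻¹ * a) := by group
        rw [this, mul_assoc, hRcomm _ hk, ← mul_assoc, ← mem_centralizer_iff.mp hc _ r₀.2, mul_assoc]
      exact hr₀ (Subtype.ext (hfreeR a ha2 _ r₀.2 hfix))
    have hcen : π a ∈ center (G ⧸ R) := by
      refine mem_center_iff.mpr fun x => ?_
      obtain ⟨x, rfl⟩ := QuotientGroup.mk'_surjective R x
      set b := x * a * x⁻¹ with hb
      have hb2 : orderOf b = 2 := ((MulAut.conj x).orderOf_eq a).trans ha2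
      have hab : a * b ∈ C := mem_centralizer_iff.mpr fun r hr => by
        have h1 := hinv b hb2 r hr
        have h2 := hinv a ha2 r⁻¹ (inv_mem hr)
        rw [inv_inv] at h2
        have hbb : b * b = 1 := by rw [← pow_two, ← hb2]; exact pow_orderOf_eq_one b
        calc r * (a * b) = a * r⁻¹ * a * (a * b) := by rw [h2]
          _ = a * r⁻¹ * (a * a) * b := by group
          _ = a * (b * r * b) * b := by rw [haa, h1, mul_one]
          _ = a * b * r * (b * b) := by group
          _ = a * b * r := by rw [hbb, mul_one]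
      have h3 : π (a * b) = 1 := mem_bot.mp (hcase ▸ mem_map_of_mem π hab)
      have h4 : π b = π a := by
        have e : π a * π a = 1 := by rw [← map_mul, haa, map_one]
        rw [map_mul] at h3
        exact (mul_left_cancel (h3.trans e.symm) : π b = π a)
      rw [hb, map_mul, map_mul, map_inv] at h4
      exact mul_inv_eq_iff_eq_mul.mp h4
    rcases IsSimpleGroup.eq_bot_or_eq_top_of_normal (center (G ⧸ R)) inferInstance with e | e
    · exact haR ((hπ1 a).mp (mem_bot.mp (e ▸ hcen)))
    · exact not_solvable_of_card_168 h168 ⟨⟨fun x y => (mem_center_iff.mp (e ▸ mem_top x) y).symm⟩⟩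

theorem card_psl_seven {F : Type} [Field F] [Fintype F] (hF : Fintype.card F = 7) :
    Nat.card (Matrix.ProjectiveSpecialLinearGroup (Fin 2) F) = 168 := by
  have hc := Cfsg.Agent.S0243.result (F := F) hF 2 le_rfl
  rw [Fin.prod_univ_two] at hc
  norm_num at hc
  omega

/-- The nonsolvable groups with this spectrum are `PSL₂(7)`. -/
theorem classification (n : ℕ) : ∀ (G : Type u) [Group G] [Finite G], Nat.card G = n → Spec G →
    ¬ Group.IsSolvable G → IsSimpleGroup G ∧ Nat.card G = 168 ∧
      ∃ (F : Type) (_ : Field F) (_ : Fintype F), Fintype.card F = 7 ∧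
        Nonempty (G ≃* Matrix.ProjectiveSpecialLinearGroup (Fin 2) F) := by
  induction n using Nat.strong_induction_on with
  | _ n ih =>
  intro G _ _ hn h hns
  classical
  haveI : Fact (Nat.Prime 2) := ⟨Nat.prime_two⟩
  haveI : Nontrivial G := by
    by_contra hnt
    haveI := not_nontrivial_iff_subsingleton.mp hnt
    exact hns (Group.isSolvable_of_comm fun a b => Subsingleton.elim _ _)
  have hlt : ∀ H : Subgroup G, H ≠ ⊤ → Nat.card H < n := fun H hH => hn ▸ lt_of_le_of_ne H.card_le_card_group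
    (fun e => hH (H.eq_top_of_card_eq e))
  have hsimple : IsSimpleGroup G := by
    obtain ⟨R, hRn, hRs, hRmax⟩ := SixSpectrum.exists_radical (G := G)
    haveI := hRn
    by_cases hR : R = ⊥
    · by_contra hnot
      obtain ⟨N, hN, hN1, hN2⟩ : ∃ N : Subgroup G, N.Normal ∧ N ≠ ⊥ ∧ N ≠ ⊤ := by
        by_contra hall
        push_neg at hall
        exact hnot ⟨fun N hN => or_iff_not_imp_left.mpr (hall N hN)⟩
      haveI := hN
      have hNns : ¬ Group.IsSolvable N := fun hs => hN1 (le_bot_iff.mp ((hRmax N hN hs).trans hR.le))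
      obtain ⟨hs, h168, -⟩ := ih _ (hlt N hN2) N rfl (h.subgroup N) hNns
      haveI := hs
      exact hN2 (eq_top_of_simple_168 h N h168)
    · exfalso
      obtain ⟨p, hp, hRp⟩ := Cfsg.Agent.S3992.radical_isPGroup hns h.ppow R hRs hRmax
      haveI := Fact.mk hp
      have hQns : ¬ Group.IsSolvable (G ⧸ R) := fun hs => by
        haveI := hs
        have h1 := Cfsg.Agent.S3992.solvable_comap R hRs (⊤ : Subgroup (G ⧸ R)) inferInstance
        rw [comap_top] at h1
        exact hns (Group.isSolvable_of_surjective (f := (⊤ : Subgroup G).subtype) fun g => ⟨⟨g, mem_top g⟩, rfl⟩)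
      have hcard : Nat.card (G ⧸ R) < n := by
        rw [← hn, card_eq_card_quotient_mul_card_subgroup R]
        exact lt_mul_of_one_lt_right Nat.card_pos (R.one_lt_card_iff_ne_bot.mpr hR)
      obtain ⟨hs, h168, -⟩ := ih _ hcard (G ⧸ R) rfl
        (h.of_surjective (QuotientGroup.mk' R) (QuotientGroup.mk'_surjective R)) hQns
      haveI := hs
      exact no_radical h R hRp hR h168
  haveI := hsimple
  have hna := not_comm_of_not_solvable hns
  have hsol : ∀ T : Subgroup G, IsPGroup 2 T → T ≠ ⊥ → Group.IsSolvable (normalizer (T : Set G)) := by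
    intro T hT hne
    by_contra hX
    have hXtop : normalizer (T : Set G) ≠ ⊤ := by
      intro htop
      haveI : T.Normal := normalizer_eq_top_iff.mp htop
      rcases (inferInstance : T.Normal).eq_bot_or_eq_top with e | e
      · exact hne e
      · have hG : IsPGroup 2 G := hT.of_equiv ((MulEquiv.subgroupCongr e).trans topEquiv)
        haveI := hG.isNilpotent
        exact hns inferInstance
    obtain ⟨hs, -, -⟩ := ih _ (hlt _ hXtop) _ rfl (h.subgroup _) hX
    haveI := hs
    haveI : (T.subgroupOf (normalizer (T : Set G))).Normal := normal_subgroupOf_of_le_normalizer le_rfl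
    rcases (inferInstance : (T.subgroupOf (normalizer (T : Set G))).Normal).eq_bot_or_eq_top with e | e
    · refine hne (le_bot_iff.mp fun t ht => ?_)
      have h1 : (⟨t, le_normalizer ht⟩ : normalizer (T : Set G)) ∈ T.subgroupOf (normalizer (T : Set G)) :=
        mem_subgroupOf.mpr ht
      rw [e, mem_bot] at h1
      exact mem_bot.mpr (congrArg Subtype.val h1)
    · have hp : IsPGroup 2 (normalizer (T : Set G)) := hT.to_le (subgroupOf_eq_top.mp e)
      haveI := hp.isNilpotent
      exact hX inferInstance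
  obtain ⟨F, i1, i2, ⟨e⟩⟩ : ∃ (F : Type) (_ : Field F) (_ : Fintype F),
      Nonempty (G ≃* Matrix.ProjectiveSpecialLinearGroup (Fin 2) F) := by
    by_cases hJ : NoOffender G
    · obtain ⟨S⟩ := (inferInstance : Nonempty (Sylow 2 G))
      have hS : (S : Subgroup G) ≠ ⊥ := by
        refine S.ne_bot_of_dvd_card ?_
        by_contra hodd
        exact hns (Cfsg.Agent.S0205.result (Nat.not_even_iff_odd.mp fun he => hodd (even_iff_two_dvd.mp he)))
      obtain ⟨M, D, q, y, z, E⟩ := exists_embeddedData h hna hsol hJ S hS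
      exact E.isPSL h
    · simp only [NoOffender, not_forall] at hJ
      obtain ⟨T₀, hT₀, hne, T, ⟨hTX, hT, hTmax⟩, A, hA, hAD⟩ := hJ
      exact isPSL_of_offender h hna hT₀ hne (hsol T₀ hT₀ hne) hTX hT hTmax hA hAD
  have h7 := card_field_eq_seven h hns e
  exact ⟨hsimple, by rw [Nat.card_congr e.toEquiv, card_psl_seven h7], F, i1, i2, h7, ⟨e⟩⟩

end CfsgLib.SevenSpectrum
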